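import Cfsg.Agent.Mrg.Omega.OM.Swap.Rep
import Cfsg.Agent.Mrg.Omega.OM.YThm.Def
import Cfsg.Agent.Mrg.Omega.FF.GlobFam
import Mathlib.GroupTheory.PGroup
import Mathlib.Algebra.BigOperators.Group.Finset.Basic

section


/-!
# THEOREM Y, plug: the fields `ff` and `rep` at group level (helper359)

`A₀` is elementary abelian of maximal order `m`, `W` an elementary abelian 2-group normalised by `A₀`, `A W = A₀ W` and
`X ≤ W` is normalised by `A`.

* `ffG` : `|X| |C_A(X)| ≤ |A| |C_X(A)|`;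
* `repG` : if `A` moves `X`, then there are `A' ≤ A` and `A₀'` of the same kind with `A' W = A₀' W`, `A'` moves `X` and
  `[X, A', A'] = 1`.

The hypothesis `hm` is `BlockUniq.Mx G m` written out.
-/

set_option autoImplicit false

namespace Cfsg.Agent.Omega.OM.YThm.FfRep

open Subgroup Cfsg Cfsg.Agent.ZN Cfsg.Agent.ZN.ChoiceBase Cfsg.Agent.Omega.OM.Swap
open scoped Pointwise commutatorElement

universe u

variable {G : Type u} [Group G]

/-- `|H K : K| = |H : H ∩ K|` for `K` normalised by `H`. -/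
theorem relIndex_sup_nm {K H : Subgroup G} (h : H ≤ normalizer (K : Set G)) : K.relIndex (H ⊔ K) = K.relIndex H := by
  have hKn : (K.subgroupOf (K ⊔ H)).Normal :=
    normal_subgroupOf_of_le_normalizer (sup_le le_normalizer h)
  have h1 := relIndex_sup_left (H.subgroupOf (K ⊔ H)) (K.subgroupOf (K ⊔ H))
  rw [← Subgroup.subgroupOf_sup le_sup_left le_sup_right, Subgroup.subgroupOf_self,
    Subgroup.relIndex_subgroupOf le_sup_right, relIndex_top_right] at h1
  rw [sup_comm, ← h1]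
  rfl

theorem nrm_cent {X : Subgroup G} : normalizer (X : Set G) ≤ normalizer ((centralizer (X : Set G) : Subgroup G) : Set G) := by
  intro s hs
  have key : ∀ s ∈ normalizer (X : Set G), ∀ c ∈ centralizer (X : Set G), s * c * s⁻¹ ∈ centralizer (X : Set G) := by
    intro s hs c hc
    rw [mem_centralizer_iff] at hc ⊢
    intro x hx
    have h1 : s⁻¹ * x * s ∈ X := by
      have := (mem_normalizer_iff.1 (inv_mem hs) x).1 hx
      rwa [inv_inv] at this
    have h2 := hc _ h1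
    calc x * (s * c * s⁻¹) = s * (s⁻¹ * x * s * c) * s⁻¹ := by group
      _ = s * (c * (s⁻¹ * x * s)) * s⁻¹ := by rw [h2]
      _ = s * c * s⁻¹ * x := by group
  rw [mem_normalizer_iff]
  intro c
  refine ⟨key s hs c, fun h => ?_⟩
  have h3 := key s⁻¹ (inv_mem hs) _ h
  have h4 : s⁻¹ * (s * c * s⁻¹) * s⁻¹⁻¹ = c := by group
  rwa [h4] at h3

theorem mem_sup_nm {A B : Subgroup G} (h : A ≤ normalizer (B : Set G)) {g : G} (hg : g ∈ A ⊔ B) :
    ∃ a ∈ A, ∃ b ∈ B, g = a * b := by
  have h1 : g ∈ (A : Set G) * (B : Set G) := by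
    rw [← coe_mul_of_left_le_normalizer_right A B h]
    exact hg
  obtain ⟨r, hr, b, hb, rfl⟩ := Set.mem_mul.1 h1
  exact ⟨r, hr, b, hb, rfl⟩

theorem mem_sup_cm {A B : Subgroup G} (h : ∀ x ∈ A, ∀ y ∈ B, x * y = y * x) {g : G} (hg : g ∈ A ⊔ B) :
    ∃ a ∈ A, ∃ b ∈ B, g = a * b :=
  mem_sup_nm (fun a ha => (Subgroup.centralizer_le_normalizer _)
    (mem_centralizer_iff.2 fun b hb => (h a ha b hb).symm)) hg

variable {m : ℕ} {A₀ A W X : Subgroup G}

/-- `W` centralises `X ≤ W` -/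
theorem W_cent (hW : IsElementaryAbelian 2 W) (hX : X ≤ W) : W ≤ centralizer (X : Set G) := fun w hw =>
  mem_centralizer_iff.2 fun x hx => elab_comm hW x (hX hx) w hw

theorem le_nrm (hW : IsElementaryAbelian 2 W) (h2 : A₀ ≤ A ⊔ W) (hX : X ≤ W) (hAX : A ≤ normalizer (X : Set G)) :
    A₀ ⊔ W ≤ normalizer (X : Set G) := by
  have hWX : W ≤ normalizer (X : Set G) :=
    (W_cent hW hX).trans (Subgroup.centralizer_le_normalizer _)
  exact sup_le (h2.trans (sup_le hAX hWX)) hWX

/-- `A₀` has maximal order in `A₀ W`. -/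
theorem mem_AA (hm : ∀ E : Subgroup G, IsElementaryAbelian 2 E → Nat.card E ≤ m) (hA₀ : IsElementaryAbelian 2 A₀) (hAm : Nat.card A₀ = m) {F : Subgroup G} (hF : A₀ ≤ F) :
    A₀ ∈ AA F := ⟨hA₀, hF, fun B hB _ => by rw [hAm]; exact hm B hB⟩

theorem cent_eq (hW : IsElementaryAbelian 2 W) (h1 : A ≤ A₀ ⊔ W) (hX : X ≤ W) :
    X ⊓ centralizer (A₀ : Set G) ≤ X ⊓ centralizer (A : Set G) := by
  rintro x ⟨hx, hx'⟩
  refine ⟨hx, ?_⟩
  have : A₀ ⊔ W ≤ centralizer ({x} : Set G) := by
    refine sup_le (fun a ha => ?_) (fun w hw => ?_)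
    · rw [mem_centralizer_singleton_iff]
      exact mem_centralizer_iff.1 hx' a ha
    · rw [mem_centralizer_singleton_iff]
      exact elab_comm hW w hw x (hX hx)
  refine mem_centralizer_iff.2 fun a ha => ?_
  have := this (h1 ha)
  rwa [mem_centralizer_singleton_iff] at this

theorem ffG [Finite G] (hm : ∀ E : Subgroup G, IsElementaryAbelian 2 E → Nat.card E ≤ m) (hA₀ : IsElementaryAbelian 2 A₀) (hAm : Nat.card A₀ = m) (hW : IsElementaryAbelian 2 W)
    (h1 : A ≤ A₀ ⊔ W) (h2 : A₀ ≤ A ⊔ W) (hX : X ≤ W) (hAX : A ≤ normalizer (X : Set G)) :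
    Nat.card X * Nat.card ↥(A ⊓ centralizer (X : Set G)) ≤ Nat.card A * Nat.card ↥(X ⊓ centralizer (A : Set G)) := by
  have hnr := le_nrm (A₀ := A₀) hW h2 hX hAX
  have hWC := W_cent hW hX
  have k1 := relIndex_le (mem_AA hm hA₀ hAm (le_sup_left : A₀ ≤ A₀ ⊔ W)) (elab_mono hW hX) (hX.trans le_sup_right)
  have k2 : (centralizer (X : Set G)).relIndex A₀ = (centralizer (X : Set G)).relIndex A := by
    rw [← relIndex_sup_nm ((le_sup_left.trans hnr).trans nrm_cent), ← relIndex_sup_nm (hAX.trans nrm_cent)]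
    congr 1
    apply le_antisymm
    · exact sup_le (h2.trans (sup_le_sup_left hWC _)) le_sup_right
    · exact sup_le (h1.trans (sup_le_sup_left hWC _)) le_sup_right
  rw [k2] at k1
  have h6 : Nat.card ↥(X ⊓ centralizer (A₀ : Set G)) * (centralizer (A₀ : Set G)).relIndex X = Nat.card X := by
    rw [inf_comm, ← inf_relIndex_right]
    exact card_mul_relIndex inf_le_right
  have h7 : Nat.card ↥(A ⊓ centralizer (X : Set G)) * (centralizer (X : Set G)).relIndex A = Nat.card A := by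
    rw [inf_comm, ← inf_relIndex_right]
    exact card_mul_relIndex inf_le_right
  have h5 := Subgroup.card_le_of_le (cent_eq (A₀ := A₀) hW h1 hX)
  calc Nat.card X * Nat.card ↥(A ⊓ centralizer (X : Set G))
      = Nat.card ↥(X ⊓ centralizer (A₀ : Set G)) * (centralizer (A₀ : Set G)).relIndex X *
          Nat.card ↥(A ⊓ centralizer (X : Set G)) := by rw [h6]
    _ ≤ Nat.card ↥(X ⊓ centralizer (A : Set G)) * (centralizer (X : Set G)).relIndex A *
          Nat.card ↥(A ⊓ centralizer (X : Set G)) := Nat.mul_le_mul_right _ (Nat.mul_le_mul h5 k1)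
    _ = Nat.card ↥(A ⊓ centralizer (X : Set G)) * (centralizer (X : Set G)).relIndex A *
          Nat.card ↥(X ⊓ centralizer (A : Set G)) := by ring
    _ = _ := by rw [h7]

theorem repG [Finite G] (hm : ∀ E : Subgroup G, IsElementaryAbelian 2 E → Nat.card E ≤ m) (hA₀ : IsElementaryAbelian 2 A₀) (hAm : Nat.card A₀ = m) (hW : IsElementaryAbelian 2 W)
    (hAW : A₀ ≤ normalizer (W : Set G)) (h1 : A ≤ A₀ ⊔ W) (h2 : A₀ ≤ A ⊔ W) (hX : X ≤ W)
    (hAX : A ≤ normalizer (X : Set G)) (hne : ¬ A ≤ centralizer (X : Set G)) :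
    ∃ A' A₀' : Subgroup G, A' ≤ A ∧ IsElementaryAbelian 2 A₀' ∧ Nat.card A₀' = m ∧ A' ≤ A₀' ⊔ W ∧ A₀' ≤ A' ⊔ W ∧
      ¬ A' ≤ centralizer (X : Set G) ∧
      ∀ a ∈ A', ∀ b ∈ A', ∀ x ∈ X, a * (b * x * b⁻¹ * x⁻¹) * a⁻¹ = b * x * b⁻¹ * x⁻¹ := by
  have hnr := le_nrm (A₀ := A₀) hW h2 hX hAX
  have hWC := W_cent hW hX
  have hAA := mem_AA hm hA₀ hAm (le_sup_left : A₀ ≤ A₀ ⊔ W)
  have hXe := elab_mono hW hX
  have hXF : X ≤ A₀ ⊔ W := hX.trans le_sup_right
  obtain ⟨r1, r2⟩ := rep hAA hXe hXF hnr (le_refl X)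
  have r3 := rep_cent hAA hXe hXF hnr (le_refl X)
  set B : Subgroup G := A₀ ⊓ centralizer ((⁅X, A₀⁆ : Subgroup G) : Set G) with hB
  set C : Subgroup G := X ⊓ centralizer (B : Set G) with hC
  have hWF : A₀ ⊔ W ≤ normalizer (W : Set G) := sup_le hAW le_normalizer
  have hAF : A ≤ normalizer (W : Set G) := h1.trans hWF
  -- `A W = A₀ W`
  have hF : A ⊔ W = A₀ ⊔ W := le_antisymm (sup_le h1 le_sup_right) (sup_le h2 le_sup_right)
  have hBF : B ⊔ C ≤ A₀ ⊔ W := r2.2.1
  have hBCW : B ⊔ C ≤ normalizer (W : Set G) := hBF.trans hWF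
  refine ⟨A ⊓ ((B ⊔ C) ⊔ W), B ⊔ C, inf_le_left, r2.1, ?_, inf_le_right, ?_, ?_, ?_⟩
  · apply le_antisymm (hm _ r2.1)
    rw [← hAm]
    exact r2.2.2 _ hA₀ le_sup_left
  · intro y hy
    have hy1 : y ∈ A ⊔ W := by rw [hF]; exact hBF hy
    obtain ⟨a, ha, w, hw, rfl⟩ := mem_sup_nm hAF hy1
    refine mul_mem (mem_sup_left ⟨ha, ?_⟩) (mem_sup_right hw)
    have : a = a * w * w⁻¹ := by group
    rw [this]
    exact mul_mem (mem_sup_left hy) (mem_sup_right (inv_mem hw))
  · intro hcon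
    apply hne
    -- `B` centralises `X`
    have hBX : ∀ b ∈ B, ∀ u ∈ X, b * u = u * b := by
      intro b hb u hu
      have hb1 : b ∈ A ⊔ W := by rw [hF]; exact hBF (mem_sup_left hb)
      obtain ⟨a, ha, w, hw, e⟩ := mem_sup_nm hAF hb1
      have ha' : a ∈ A ⊓ ((B ⊔ C) ⊔ W) := by
        refine ⟨ha, ?_⟩
        have : a = b * w⁻¹ := by rw [e]; group
        rw [this]
        exact mul_mem (mem_sup_left (mem_sup_left hb)) (mem_sup_right (inv_mem hw))
      have h3 := mem_centralizer_iff.1 (hcon ha') u hu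
      have h4 := mem_centralizer_iff.1 (hWC hw) u hu
      rw [e, mul_assoc, ← h4, ← mul_assoc, ← h3, mul_assoc]
    have h3 := r3 hBX
    refine h1.trans (sup_le ?_ hWC)
    rwa [le_centralizer_iff]
  · -- quadratic
    have hstr : ∀ b ∈ A ⊓ ((B ⊔ C) ⊔ W), ∃ c ∈ B, ∃ w ∈ W, b = c * w := by
      intro b hb
      obtain ⟨y, hy, w, hw, rfl⟩ := mem_sup_nm hBCW hb.2
      have hBC : ∀ x ∈ B, ∀ y ∈ C, x * y = y * x := fun x hx y hy => mem_centralizer_iff.1 hy.2 x hx
      obtain ⟨c, hc, x, hx, rfl⟩ := mem_sup_cm hBC hy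
      exact ⟨c, hc, x * w, mul_mem (hX hx.1) hw, by group⟩
    intro a ha b hb x hx
    obtain ⟨c, hc, w, hw, rfl⟩ := hstr b hb
    obtain ⟨c', hc', w', hw', rfl⟩ := hstr a ha
    have e1 : c * w * x * (c * w)⁻¹ * x⁻¹ = ⁅c, x⁆ := by
      rw [commutatorElement_def]
      have : w * x = x * w := elab_comm hW w hw x (hX hx)
      calc c * w * x * (c * w)⁻¹ * x⁻¹ = c * (w * x) * w⁻¹ * c⁻¹ * x⁻¹ := by group
        _ = c * (x * w) * w⁻¹ * c⁻¹ * x⁻¹ := by rw [this]
        _ = c * x * c⁻¹ * x⁻¹ := by group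
    rw [e1]
    have hmem : ⁅c, x⁆ ∈ ⁅X, A₀⁆ := by
      rw [commutator_comm]
      exact commutator_mem_commutator hc.1 hx
    have hmX : ⁅c, x⁆ ∈ X := by
      rw [commutatorElement_def]
      exact mul_mem ((mem_normalizer_iff.1 (hnr (mem_sup_left hc.1)) x).1 hx) (inv_mem hx)
    have f1 : c' * ⁅c, x⁆ = ⁅c, x⁆ * c' := (mem_centralizer_iff.1 hc'.2 _ hmem).symm
    have f2 : w' * ⁅c, x⁆ = ⁅c, x⁆ * w' := elab_comm hW w' hw' _ (hX hmX)
    calc c' * w' * ⁅c, x⁆ * (c' * w')⁻¹ = c' * (w' * ⁅c, x⁆) * (c' * w')⁻¹ := by group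
      _ = c' * ⁅c, x⁆ * c'⁻¹ := by rw [f2]; group
      _ = ⁅c, x⁆ := by rw [f1]; group

end Cfsg.Agent.Omega.OM.YThm.FfRep

end

section


/-!
# THEOREM Y (TCARD 5), part B2 (i): the sum over the points

`sum_mem` : if `|A : kA| ≥ 4`, `z ∈ Z₁` and `l • z - z ∈ R = C_{Z₁}(L)` for all `l ∈ L₀`, then `z ∈ R`.
`exists_odd` : if `|A : kA| ≥ 4`, then an element of odd order of `L₀` acts nontrivially on `Z₁`.
Only (b5) = (ti) is used (as a hypothesis).
-/

set_option autoImplicit false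

namespace Cfsg.Agent.Omega.OM.YThm.Sum

open Subgroup Cfsg.Agent.ZN Cfsg.Agent.ZN.ChoiceBase Cfsg.Agent.ZN.ChoiceSit
open Cfsg.Agent.Omega.OM.YThm
open scoped Pointwise

/-- sum over free orbits of a four-group -/
theorem sum_klein {X N : Type*} [AddCommMonoid N] (a b : X → X) (f : X → N)
    (hab : ∀ x, a (b x) = b (a x)) : ∀ (n : ℕ) (s : Finset X), s.card ≤ n →
    (∀ x ∈ s, a x ∈ s) → (∀ x ∈ s, b x ∈ s) → (∀ x ∈ s, a (a x) = x) → (∀ x ∈ s, b (b x) = x) →
    (∀ x ∈ s, a x ≠ x ∧ b x ≠ x ∧ a x ≠ b x) →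
    (∀ x ∈ s, f x + f (a x) + f (b x) + f (a (b x)) = 0) → ∑ x ∈ s, f x = 0 := by
  classical
  intro n
  induction n with
  | zero =>
    intro s hs _ _ _ _ _ _
    rw [Finset.card_eq_zero.1 (Nat.le_zero.1 hs), Finset.sum_empty]
  | succ n ih =>
    intro s hs ha hb haa hbb hne h0
    rcases s.eq_empty_or_nonempty with rfl | ⟨x, hx⟩
    · rfl
    · obtain ⟨h1, h2, h3⟩ := hne x hx
      have hax := ha x hx
      have hbx := hb x hx
      have habx := ha _ hbx
      have h4 : a (b x) ≠ x := by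
        intro e
        apply h3
        have := congrArg a e
        rw [haa _ hbx] at this
        exact this.symm
      have h5 : a (b x) ≠ a x := by
        intro e
        have := congrArg a e
        rw [haa _ hbx, haa _ hx] at this
        exact h2 this
      have h6 : a (b x) ≠ b x := (hne _ hbx).1
      let t : Finset X := {x, a x, b x, a (b x)}
      have ht : t ⊆ s := by
        intro y hy
        simp only [t, Finset.mem_insert, Finset.mem_singleton] at hy
        rcases hy with rfl | rfl | rfl | rfl <;> assumption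
      have hta : ∀ y, y ∈ s → a y ∈ t → y ∈ t := by
        intro y hy hyt
        simp only [t, Finset.mem_insert, Finset.mem_singleton] at hyt ⊢
        rcases hyt with e | e | e | e
        · right; left; rw [← e, haa y hy]
        · left; have := congrArg a e; rwa [haa y hy, haa x hx] at this
        · right; right; right; rw [← e, haa y hy]
        · right; right; left; have := congrArg a e; rwa [haa y hy, haa _ hbx] at this
      have htb : ∀ y, y ∈ s → b y ∈ t → y ∈ t := by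
        intro y hy hyt
        simp only [t, Finset.mem_insert, Finset.mem_singleton] at hyt ⊢
        rcases hyt with e | e | e | e
        · right; right; left; rw [← e, hbb y hy]
        · right; right; right; have := congrArg b e; rw [hbb y hy] at this; rw [this, hab]
        · left; have := congrArg b e; rwa [hbb y hy, hbb x hx] at this
        · right; left
          have := congrArg b e
          rw [hbb y hy, hab, hbb _ hax] at this
          exact this
      have hcard : t.card ≤ s.card := Finset.card_le_card ht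
      have hsum : ∑ y ∈ t, f y = 0 := by
        have e : ∑ y ∈ t, f y = f x + (f (a x) + (f (b x) + f (a (b x)))) := by
          rw [Finset.sum_insert, Finset.sum_insert, Finset.sum_insert, Finset.sum_singleton]
          · simpa using h6.symm
          · simp only [Finset.mem_insert, Finset.mem_singleton, not_or]
            exact ⟨h3, h5.symm⟩
          · simp only [Finset.mem_insert, Finset.mem_singleton, not_or]
            exact ⟨h1.symm, h2.symm, h4.symm⟩
        rw [e, ← h0 x hx]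
        simp only [add_assoc]
      rw [← Finset.sum_sdiff ht, hsum, add_zero]
      apply ih
      · have : (s \ t).card < s.card := by
          apply Finset.card_lt_card
          refine ⟨Finset.sdiff_subset, fun h => ?_⟩
          have := h hx
          rw [Finset.mem_sdiff] at this
          exact this.2 (by simp [t])
        omega
      · intro y hy
        rw [Finset.mem_sdiff] at hy ⊢
        exact ⟨ha y hy.1, fun h => hy.2 (hta y hy.1 h)⟩
      · intro y hy
        rw [Finset.mem_sdiff] at hy ⊢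
        exact ⟨hb y hy.1, fun h => hy.2 (htb y hy.1 h)⟩
      · exact fun y hy => haa y (Finset.mem_sdiff.1 hy).1
      · exact fun y hy => hbb y (Finset.mem_sdiff.1 hy).1
      · exact fun y hy => hne y (Finset.mem_sdiff.1 hy).1
      · exact fun y hy => h0 y (Finset.mem_sdiff.1 hy).1

variable {H : Type*} [Group H] {M : Type*} [AddCommGroup M] [DistribMulAction H M]

section

variable {𝒜 : Set (Subgroup H)} {S : Subgroup H}
  {Z : AddSubgroup M} {A J₀ L : Subgroup H} {Z₁ : AddSubgroup M}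

/-- `u` fixed by `A`, `J₀` and modulo `C(L)` by `L` ⟹ `u` fixed by `L` -/
theorem fix_of_mod (d : LD 𝒜 S Z A J₀ L Z₁) {u : M} (hA : ∀ a ∈ A, a • u = u) (hJ : ∀ j ∈ J₀, j • u = u)
    (hd : ∀ l ∈ L, ∀ m ∈ L, m • (l • u - u) = l • u - u) : ∀ l ∈ L, l • u = u := by
  obtain ⟨x, hx, hxZ⟩ := d.ne
  have hmul : ∀ l ∈ L, ∀ m ∈ L, (l * m) • u - u = (l • u - u) + (m • u - u) := by
    intro l hl m hm
    have h1 := hd m hm l hl
    rw [smul_sub, ← mul_smul] at h1
    have : (l * m) • u = m • u - u + l • u := by rw [← h1]; abel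
    rw [this]; abel
  let K : Subgroup H :=
    { carrier := {l | l ∈ L ∧ l • u = u}
      one_mem' := ⟨L.one_mem, one_smul H u⟩
      mul_mem' := fun {a b} ha hb => ⟨L.mul_mem ha.1 hb.1, by rw [mul_smul, hb.2, ha.2]⟩
      inv_mem' := fun {a} ha => ⟨L.inv_mem ha.1, by rw [inv_smul_eq_iff, ha.2]⟩ }
  have h1 : A ⊔ cj x A ⊔ J₀ ≤ K := by
    refine sup_le (sup_le (fun a ha => ⟨d.AL ha, hA a ha⟩) ?_) (fun j hj => ⟨d.JL hj, hJ j hj⟩)
    intro b hb
    have hb' : x⁻¹ * b * x ∈ A := mem_cj.1 hb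
    have hxi := L.inv_mem hx
    have haL := d.AL hb'
    have hbL : b ∈ L := by
      have : b = x * (x⁻¹ * b * x) * x⁻¹ := by group
      rw [this]
      exact L.mul_mem (L.mul_mem hx haL) hxi
    refine ⟨hbL, ?_⟩
    have e1 : (1 : H) • u - u = (x • u - u) + (x⁻¹ • u - u) := by
      rw [← hmul x hx _ hxi, mul_inv_cancel]
    have e2 : b • u - u = (x • u - u) + ((x⁻¹ * b * x) • u - u) + (x⁻¹ • u - u) := by
      rw [← hmul x hx _ haL, ← hmul _ (L.mul_mem hx haL) _ hxi]
      congr 2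
      group
    rw [hA _ hb', sub_self, add_zero, ← e1, one_smul, sub_self] at e2
    exact sub_eq_zero.1 e2
  rw [d.gen x hx hxZ] at h1
  exact fun l hl => (h1 hl).2

/-- elements `a, b` of `A` which generate a four-group modulo `kA` -/
theorem exists_pair [Finite H] (h4 : 4 * Nat.card (kA A L Z₁) ≤ Nat.card A) :
    ∃ a ∈ A, ∃ b ∈ A, a ∉ kA A L Z₁ ∧ b ∉ kA A L Z₁ ∧ b⁻¹ * a ∉ kA A L Z₁ := by
  classical
  set K := kA A L Z₁ with hK
  have hpos : 0 < Nat.card K := Nat.card_pos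
  obtain ⟨a, ha, haK⟩ : ∃ a ∈ A, a ∉ K := by
    by_contra hc
    push Not at hc
    have := Subgroup.card_le_of_le (show A ≤ K from hc)
    omega
  refine ⟨a, ha, ?_⟩
  by_contra hc
  push Not at hc
  have hsub : (A : Set H) ⊆ (K : Set H) ∪ (fun k => a * k) '' (K : Set H) := by
    intro b hb
    by_cases hbK : b ∈ K
    · exact Or.inl hbK
    · right
      have := hc b hb haK hbK
      refine ⟨a⁻¹ * b, ?_, by group⟩
      have h1 := K.inv_mem this
      rwa [mul_inv_rev, inv_inv] at h1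
  have h1 := Set.ncard_le_ncard hsub (Set.toFinite _)
  have h2 := Set.ncard_union_le (K : Set H) ((fun k => a * k) '' (K : Set H))
  have h3 := Set.ncard_image_le (f := fun k => a * k) (Set.toFinite (K : Set H))
  have h5 : (A : Set H).ncard = Nat.card A := (Nat.card_coe_set_eq _).symm
  have h6 : (K : Set H).ncard = Nat.card K := (Nat.card_coe_set_eq _).symm
  rw [h5] at h1
  rw [h6] at h2 h3
  omega

theorem smul_smul_eq {a b : H} (hc : ∀ x : M, a • b • x = b • a • x) (p : AddSubgroup M) :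
    a • b • p = b • a • p := by
  rw [← mul_smul, ← mul_smul]
  ext x
  simp only [AddSubgroup.mem_smul_pointwise_iff_exists, mul_smul]
  constructor
  · rintro ⟨_, ⟨s, hs, rfl⟩, rfl⟩; exact ⟨_, ⟨s, hs, rfl⟩, (hc s).symm⟩
  · rintro ⟨_, ⟨s, hs, rfl⟩, rfl⟩; exact ⟨_, ⟨s, hs, rfl⟩, hc s⟩

theorem smul_sq_eq {a : H} (hc : ∀ x : M, a • a • x = x) (p : AddSubgroup M) : a • a • p = p := by
  rw [← mul_smul]
  ext x
  simp only [AddSubgroup.mem_smul_pointwise_iff_exists, mul_smul]
  constructor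
  · rintro ⟨_, ⟨s, hs, rfl⟩, rfl⟩; rwa [hc]
  · intro hx; exact ⟨_, ⟨x, hx, rfl⟩, hc x⟩

/-- (b7) -/
theorem sum_mem [Finite H] [Finite M] (two : ∀ x : M, x + x = 0) (el : El M A) (d : LD 𝒜 S Z A J₀ L Z₁)
    (ti : ∀ a ∈ A, ∀ x ∈ L, x • Z₁ ≠ Z₁ → a • x • Z₁ = x • Z₁ → a ∈ kA A L Z₁)
    (h4 : 4 * Nat.card (kA A L Z₁) ≤ Nat.card A) {z : M} (hz : z ∈ Z₁)
    (hl : ∀ l ∈ L, l • Z₁ = Z₁ → l • z - z ∈ fx Z₁ L) : z ∈ fx Z₁ L := by
  classical
  obtain ⟨a, ha, b, hb, haK, hbK, habK⟩ := exists_pair h4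
  set R := fx Z₁ L with hR
  have hRL : ∀ l ∈ L, ∀ r ∈ R, l • r = r := fun l hl r hr => hr.2 l hl
  let c : AddSubgroup M → H := fun p => if hp : ∃ l ∈ L, l • Z₁ = p then hp.choose else 1
  have hc : ∀ l ∈ L, c (l • Z₁) ∈ L ∧ c (l • Z₁) • Z₁ = l • Z₁ := by
    intro l hl
    have hp : ∃ m ∈ L, m • Z₁ = l • Z₁ := ⟨l, hl, rfl⟩
    have e : c (l • Z₁) = hp.choose := dif_pos hp
    rw [e]; exact hp.choose_spec
  let f : AddSubgroup M → M ⧸ R := fun p => QuotientAddGroup.mk (c p • z)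
  -- Fact 1
  have hf : ∀ l ∈ L, f (l • Z₁) = QuotientAddGroup.mk (l • z) := by
    intro l hlL
    obtain ⟨h1, h2⟩ := hc l hlL
    set m := c (l • Z₁) with hm
    have h3 : (m⁻¹ * l) • Z₁ = Z₁ := by rw [mul_smul, ← h2, inv_smul_smul]
    have h5 := hl _ (L.mul_mem (L.inv_mem h1) hlL) h3
    have h6 := hRL m h1 _ h5
    rw [smul_sub, ← mul_smul, mul_inv_cancel_left] at h6
    change QuotientAddGroup.mk (m • z) = QuotientAddGroup.mk (l • z)
    rw [QuotientAddGroup.eq, neg_add_eq_sub, h6]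
    exact h5
  let s : Finset (AddSubgroup M) := (Set.toFinite {p : AddSubgroup M | ∃ l ∈ L, l • Z₁ = p}).toFinset
  have hs : ∀ p, p ∈ s ↔ ∃ l ∈ L, l • Z₁ = p := fun p => Set.Finite.mem_toFinset _
  have hZs : Z₁ ∈ s := (hs _).2 ⟨1, L.one_mem, one_smul H _⟩
  have hst : ∀ g ∈ L, ∀ p ∈ s, g • p ∈ s := by
    intro g hg p hp
    obtain ⟨l, hlL, rfl⟩ := (hs p).1 hp
    exact (hs _).2 ⟨g * l, L.mul_mem hg hlL, by rw [mul_smul]⟩
  have hAZ : ∀ a ∈ A, a • Z₁ = Z₁ := by
    intro a ha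
    ext x
    rw [AddSubgroup.mem_smul_pointwise_iff_exists]
    constructor
    · rintro ⟨y, hy, rfl⟩; rwa [d.cen a ha y hy]
    · intro hx; exact ⟨x, hx, d.cen a ha x hx⟩
  -- the sum over the points other than Z₁
  have h0 : ∑ p ∈ s.erase Z₁, f p = 0 := by
    refine sum_klein (fun p => a • p) (fun p => b • p) f ?_ (s.erase Z₁).card (s.erase Z₁) le_rfl ?_ ?_ ?_ ?_ ?_ ?_
    · exact fun p => smul_smul_eq (fun x => el.comm a ha b hb x) p
    · intro p hp
      rw [Finset.mem_erase] at hp ⊢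
      refine ⟨fun e => hp.1 ?_, hst a (d.AL ha) p hp.2⟩
      rw [← hAZ a ha] at e
      exact smul_left_cancel a e
    · intro p hp
      rw [Finset.mem_erase] at hp ⊢
      refine ⟨fun e => hp.1 ?_, hst b (d.AL hb) p hp.2⟩
      rw [← hAZ b hb] at e
      exact smul_left_cancel b e
    · exact fun p _ => smul_sq_eq (fun x => el.sq a ha x) p
    · exact fun p _ => smul_sq_eq (fun x => el.sq b hb x) p
    · intro p hp
      rw [Finset.mem_erase] at hp
      obtain ⟨x, hx, rfl⟩ := (hs p).1 hp.2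
      refine ⟨fun e => haK (ti a ha x hx hp.1 e), fun e => hbK (ti b hb x hx hp.1 e), fun e => habK ?_⟩
      refine ti _ (A.mul_mem (A.inv_mem hb) ha) x hx hp.1 ?_
      have e' : a • x • Z₁ = b • x • Z₁ := e
      rw [mul_smul, e', inv_smul_smul]
    · intro p hp
      rw [Finset.mem_erase] at hp
      obtain ⟨x, hx, rfl⟩ := (hs p).1 hp.2
      have e1 : f (a • x • Z₁) = QuotientAddGroup.mk (a • x • z) := by
        rw [← mul_smul, hf _ (L.mul_mem (d.AL ha) hx), mul_smul]
      have e2 : f (b • x • Z₁) = QuotientAddGroup.mk (b • x • z) := by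
        rw [← mul_smul, hf _ (L.mul_mem (d.AL hb) hx), mul_smul]
      have e3 : f (a • b • x • Z₁) = QuotientAddGroup.mk (a • b • x • z) := by
        rw [← mul_smul b x, ← mul_smul, hf _ (L.mul_mem (d.AL ha) (L.mul_mem (d.AL hb) hx)), mul_smul, mul_smul]
      have e4 := d.quad a ha b hb x hx z hz
      rw [smul_sub] at e4
      have e5 : a • b • x • z = a • x • z + b • x • z - x • z := by
        have : a • b • x • z = (a • b • x • z - a • x • z) + a • x • z := by abel
        rw [this, e4]; abel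
      show f (x • Z₁) + f (a • x • Z₁) + f (b • x • Z₁) + f (a • b • x • Z₁) = 0
      rw [hf x hx, e1, e2, e3, ← QuotientAddGroup.mk_add, ← QuotientAddGroup.mk_add, ← QuotientAddGroup.mk_add, e5]
      have e6 : x • z + a • x • z + b • x • z + (a • x • z + b • x • z - x • z) = 0 := by
        have : x • z + a • x • z + b • x • z + (a • x • z + b • x • z - x • z) =
            (a • x • z + a • x • z) + (b • x • z + b • x • z) := by abel
        rw [this, two, two, add_zero]
      rw [e6, QuotientAddGroup.mk_zero]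
  have hfZ : f Z₁ = QuotientAddGroup.mk z := by
    have := hf 1 L.one_mem
    rwa [one_smul, one_smul] at this
  have hsum : ∑ p ∈ s, f p = QuotientAddGroup.mk z := by
    rw [← Finset.add_sum_erase s f hZs, h0, add_zero, hfZ]
  let σ : M := ∑ p ∈ s, c p • z
  have hmk : ∀ (g : H), (QuotientAddGroup.mk (g • σ) : M ⧸ R) = ∑ p ∈ s, QuotientAddGroup.mk (g • c p • z) := by
    intro g
    rw [show g • σ = ∑ p ∈ s, g • c p • z from Finset.smul_sum]
    exact map_sum (QuotientAddGroup.mk' R) _ _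
  have hσ : ∀ g ∈ L, (QuotientAddGroup.mk (g • σ) : M ⧸ R) = QuotientAddGroup.mk z := by
    intro g hg
    rw [hmk, ← hsum]
    refine Finset.sum_bij (fun p _ => g • p) (fun p hp => hst g hg p hp) (fun p _ q _ e => smul_left_cancel g e) ?_ ?_
    · intro p hp
      exact ⟨g⁻¹ • p, hst _ (L.inv_mem hg) p hp, smul_inv_smul g p⟩
    · intro p hp
      obtain ⟨l, hlL, rfl⟩ := (hs p).1 hp
      obtain ⟨h1, h2⟩ := hc l hlL
      rw [← mul_smul, ← h2, ← mul_smul, hf _ (L.mul_mem hg h1)]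
      rw [h2]
  have hz1 : σ - z ∈ R := by
    have := hσ 1 L.one_mem
    rw [one_smul] at this
    have := QuotientAddGroup.eq.1 this.symm
    rwa [neg_add_eq_sub] at this
  have hz2 : ∀ g ∈ L, g • z - z ∈ R := by
    intro g hg
    have h1 := hRL g hg _ hz1
    have h2 := QuotientAddGroup.eq.1 (hσ g hg).symm
    rw [neg_add_eq_sub] at h2
    rw [smul_sub] at h1
    have : g • z - z = (g • σ - z) - (σ - z) := by rw [← h1]; abel
    rw [this]
    exact R.sub_mem h2 hz1
  refine ⟨hz, fix_of_mod d (fun a ha => d.cen a ha z hz) (fun j hj => ?_) ?_⟩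
  · have := d.cenJ j hj 1 L.one_mem z hz
    rwa [one_smul] at this
  · exact fun l hl m hm => hRL m hm _ (hz2 l hl)

/-- if all elements of odd order of `L₀` act trivially on `Z₁`, then `L₀` has a fixed vector in `Z₁ / R` -/
theorem exists_mod {L : Subgroup H} {Z₁ : AddSubgroup M} [Finite H] [Finite M] (two : ∀ x : M, x + x = 0)
    (hne : ∃ z ∈ Z₁, z ∉ fx Z₁ L)
    (hodd : ∀ l ∈ L, l • Z₁ = Z₁ → Odd (orderOf l) → ∀ z ∈ Z₁, l • z = z) :
    ∃ z ∈ Z₁, z ∉ fx Z₁ L ∧ ∀ l ∈ L, l • Z₁ = Z₁ → l • z - z ∈ fx Z₁ L := by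
  let L₀ : Subgroup H :=
    { carrier := {l | l ∈ L ∧ l • Z₁ = Z₁}
      one_mem' := ⟨L.one_mem, one_smul H _⟩
      mul_mem' := fun {a b} ha hb => ⟨L.mul_mem ha.1 hb.1, by rw [mul_smul, hb.2, ha.2]⟩
      inv_mem' := fun {a} ha => ⟨L.inv_mem ha.1, by rw [inv_smul_eq_iff, ha.2]⟩ }
  have hst : ∀ l ∈ L₀, ∀ z ∈ Z₁, l • z ∈ Z₁ := by
    intro l hl z hz
    rw [← hl.2]
    exact AddSubgroup.smul_mem_pointwise_smul _ _ _ hz
  let ρ₀ : L₀ →* AddMonoid.End Z₁ :=
    { toFun := fun l =>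
        { toFun := fun z => ⟨(l : H) • (z : M), hst l l.2 z z.2⟩
          map_zero' := Subtype.ext (smul_zero _)
          map_add' := fun x y => Subtype.ext (smul_add _ _ _) }
      map_one' := by ext z; exact one_smul H _
      map_mul' := fun x y => by ext z; exact mul_smul _ _ _ }
  let ρ : L₀ →* (AddMonoid.End Z₁)ˣ := ρ₀.toHomUnits
  have hT : IsPGroup 2 ρ.range := by
    rintro ⟨_, l, rfl⟩
    obtain ⟨k, m, hm, e⟩ := Nat.exists_eq_two_pow_mul_odd (orderOf_pos (l : H)).ne'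
    refine ⟨k, Subtype.ext ?_⟩
    change (ρ l) ^ 2 ^ k = 1
    rw [← map_pow]
    refine Units.ext (AddMonoidHom.ext fun z => Subtype.ext ?_)
    change ((l ^ 2 ^ k : L₀) : H) • (z : M) = z
    have ho : orderOf ((l : H) ^ 2 ^ k) = m := by
      rw [orderOf_pow_of_dvd (pow_ne_zero _ two_ne_zero) (by rw [e]; exact dvd_mul_right _ _), e,
        Nat.mul_div_cancel_left _ (pow_pos two_pos _)]
    have h1 := hodd ((l : H) ^ 2 ^ k) (L₀.pow_mem l.2 _).1 (L₀.pow_mem l.2 _).2 (by rw [ho]; exact hm) z z.2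
    simpa using h1
  have hfix := Cfsg.Agent.Omega.FF.Basic.exists_fixed (T := ρ.range) (V := Z₁) hT (H := ⊤)
    (K := (fx Z₁ L).addSubgroupOf Z₁) (fun v => Subtype.ext (two v)) ?_ (fun _ _ _ _ => AddSubgroup.mem_top _) le_top ?_
  · obtain ⟨v, -, hv, hv2⟩ := hfix
    refine ⟨v, v.2, fun hc => hv (by rwa [AddSubgroup.mem_addSubgroupOf]), fun l hl hlZ => ?_⟩
    have := hv2 (ρ ⟨l, hl, hlZ⟩) ⟨_, rfl⟩
    rw [AddSubgroup.mem_addSubgroupOf] at this
    exact this
  · rintro _ ⟨l, rfl⟩ v hv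
    rw [AddSubgroup.mem_addSubgroupOf] at hv ⊢
    have : ((ρ l • v : Z₁) : M) = v := by
      change (l : H) • (v : M) = v
      exact hv.2 l l.2.1
    rw [this]; exact hv
  · intro hle
    obtain ⟨z, hz, hz'⟩ := hne
    have := hle (AddSubgroup.mem_top (⟨z, hz⟩ : Z₁))
    rw [AddSubgroup.mem_addSubgroupOf] at this
    exact hz' this

/-- `Z₁` is not centralised by `L` -/
theorem exists_not_fx (d : LD 𝒜 S Z A J₀ L Z₁) : ∃ z ∈ Z₁, z ∉ fx Z₁ L := by
  obtain ⟨x, hx, hne⟩ := d.ne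
  by_contra hc
  push Not at hc
  apply hne
  ext y
  rw [AddSubgroup.mem_smul_pointwise_iff_exists]
  constructor
  · rintro ⟨z, hz, rfl⟩; rwa [(hc z hz).2 x hx]
  · intro hy; exact ⟨y, hy, (hc y hy).2 x hx⟩

/-- if `|A : kA| ≥ 4`, then an odd element of `L₀` acts nontrivially on `Z₁` -/
theorem exists_odd [Finite H] [Finite M] (two : ∀ x : M, x + x = 0) (el : El M A) (d : LD 𝒜 S Z A J₀ L Z₁)
    (ti : ∀ a ∈ A, ∀ x ∈ L, x • Z₁ ≠ Z₁ → a • x • Z₁ = x • Z₁ → a ∈ kA A L Z₁)
    (h4 : 4 * Nat.card (kA A L Z₁) ≤ Nat.card A) :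
    ∃ l ∈ L, l • Z₁ = Z₁ ∧ Odd (orderOf l) ∧ ∃ z ∈ Z₁, l • z ≠ z := by
  by_contra hc
  push Not at hc
  obtain ⟨z, hz, hzR, hl⟩ := exists_mod two (exists_not_fx d) hc
  exact hzR (sum_mem two el d ti h4 hz hl)

end

end Cfsg.Agent.Omega.OM.YThm.Sum

end

section


/-!
# THEOREM Y, part B2: the core facts of (b1)-(b6) and the SUM step (b7)
-/

set_option autoImplicit false

namespace Cfsg.Agent.Omega.OM.YThm.Two

open Subgroup Cfsg.Agent.ZN Cfsg.Agent.ZN.ChoiceBase Cfsg.Agent.ZN.ChoiceSit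
open scoped Pointwise

variable {H : Type*} [Group H] {M : Type*} [AddCommGroup M] [DistribMulAction H M]

/-- What is used of steps (b1)-(b6). -/
structure Core (A L : Subgroup H) (Z₁ U : AddSubgroup M) : Prop where
  two : ∀ x : M, x + x = 0
  el : El M A
  AL : A ≤ L
  cen : ∀ a ∈ A, ∀ z ∈ Z₁, a • z = z
  ne : ∃ l ∈ L, l • Z₁ ≠ Z₁
  pt : ∀ l ∈ L, ∀ z ∈ Z₁, l • z ∈ U
  fixA : ∀ u ∈ U, ∀ x ∈ L, x • Z₁ ≠ Z₁ → (∀ a ∈ A, a • u = u) → (∀ a ∈ A, (x * a * x⁻¹) • u = u) →
    ∀ l ∈ L, l • u = u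
  ker : ∀ u ∈ U, (∀ a ∈ A, a • u = u) → (∀ l ∈ L, ∀ m ∈ L, m • (l • u - u) = l • u - u) → ∀ l ∈ L, l • u = u
  inj : ∀ a ∈ A, a ∉ kA A L Z₁ → ∀ u ∈ U, (∀ m ∈ L, m • (a • u - u) = a • u - u) → ∀ b ∈ A, b • u = u
  ti : ∀ a ∈ A, ∀ x ∈ L, x • Z₁ ≠ Z₁ → a • x • Z₁ = x • Z₁ → a ∈ kA A L Z₁
  sub : ∀ b ∈ kA A L Z₁, ∀ l ∈ L, ∀ z ∈ Z₁, b • l • z - l • z ∈ fx Z₁ L
  quad : ∀ a ∈ A, ∀ b ∈ A, ∀ u ∈ U, a • (b • u - u) = b • u - u

namespace Core

variable {A L : Subgroup H} {Z₁ U : AddSubgroup M}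

theorem neg_eq (c : Core A L Z₁ U) (x : M) : -x = x := (eq_neg_of_add_eq_zero_left (c.two x)).symm

theorem sub_eq (c : Core A L Z₁ U) (x y : M) : x - y = x + y := by rw [sub_eq_add_neg, c.neg_eq]

/-- `a • a` is trivial on subgroups, too -/
theorem sq_smul (c : Core A L Z₁ U) {a : H} (ha : a ∈ A) (P : AddSubgroup M) : a • a • P = P := by
  ext x
  rw [AddSubgroup.mem_pointwise_smul_iff_inv_smul_mem, AddSubgroup.mem_pointwise_smul_iff_inv_smul_mem]
  have h1 : a⁻¹ • a⁻¹ • x = x := c.el.sq _ (A.inv_mem ha) x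
  rw [h1]

theorem comm_smul (c : Core A L Z₁ U) {a b : H} (ha : a ∈ A) (hb : b ∈ A) (P : AddSubgroup M) :
    a • b • P = b • a • P := by
  ext x
  rw [AddSubgroup.mem_pointwise_smul_iff_inv_smul_mem, AddSubgroup.mem_pointwise_smul_iff_inv_smul_mem,
    AddSubgroup.mem_pointwise_smul_iff_inv_smul_mem, AddSubgroup.mem_pointwise_smul_iff_inv_smul_mem,
    c.el.comm _ (A.inv_mem hb) _ (A.inv_mem ha)]

theorem quad' (c : Core A L Z₁ U) {a b : H} (ha : a ∈ A) (hb : b ∈ A) {u : M} (hu : u ∈ U) :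
    a • b • u = a • u + b • u + u := by
  have h1 := c.quad a ha b hb u hu
  rw [smul_sub, sub_eq_iff_eq_add] at h1
  rw [h1, c.sub_eq]
  abel

/-- (b7) the SUM step. -/
theorem sum_step [Finite M] (c : Core A L Z₁ U) {a b : H} (ha : a ∈ A) (hb : b ∈ A) (hak : a ∉ kA A L Z₁)
    (hbk : b ∉ kA A L Z₁) (habk : a * b ∉ kA A L Z₁) {z : M} (hz : z ∈ Z₁)
    (hzL : ∀ l ∈ L, l • Z₁ = Z₁ → l • z - z ∈ fx Z₁ L) : z ∈ fx Z₁ L := by
  classical
  set R := fx Z₁ L with hR
  -- the points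
  let isPt : AddSubgroup M → Prop := fun P => ∃ l ∈ L, l • Z₁ = P
  have hpt1 : isPt Z₁ := ⟨1, L.one_mem, one_smul H _⟩
  have hptg : ∀ {P : AddSubgroup M}, isPt P → ∀ {g : H}, g ∈ L → isPt (g • P) := by
    rintro P ⟨l, hl, rfl⟩ g hg
    exact ⟨g * l, L.mul_mem hg hl, mul_smul g l Z₁⟩
  let rep : AddSubgroup M → H := fun P => if h : isPt P then h.choose else 1
  have hrep : ∀ {P : AddSubgroup M}, isPt P → rep P ∈ L ∧ rep P • Z₁ = P := by
    intro P hP
    have : rep P = hP.choose := dif_pos hP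
    rw [this]
    exact hP.choose_spec
  let F : AddSubgroup M → M := fun P => rep P • z
  have hFU : ∀ {P : AddSubgroup M}, isPt P → F P ∈ U := fun hP => c.pt _ (hrep hP).1 z hz
  have hRfix : ∀ {r : M}, r ∈ R → ∀ l ∈ L, l • r = r := fun hr => hr.2
  -- two elements of `L` with the same image of `Z₁`
  have key : ∀ g ∈ L, ∀ k ∈ L, g • Z₁ = k • Z₁ → g • z - k • z ∈ R := by
    intro g hg k hk hgk
    have hm : (k⁻¹ * g) • Z₁ = Z₁ := by rw [mul_smul, hgk, inv_smul_smul]
    have hmL : k⁻¹ * g ∈ L := L.mul_mem (L.inv_mem hk) hg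
    have hr := hzL _ hmL hm
    have h1 := hRfix hr k hk
    rw [smul_sub, ← mul_smul, mul_inv_cancel_left] at h1
    rw [h1]
    exact hr
  have hF : ∀ {P : AddSubgroup M}, isPt P → ∀ {g : H}, g ∈ L → g • F P - F (g • P) ∈ R := by
    intro P hP g hg
    have h1 := hrep hP
    have h2 := hrep (hptg hP hg)
    have h3 := key (g * rep P) (L.mul_mem hg h1.1) (rep (g • P)) h2.1 (by rw [mul_smul, h1.2, h2.2])
    rwa [mul_smul] at h3
  have := Fintype.ofFinite (AddSubgroup M)
  let Om : Finset (AddSubgroup M) := Finset.univ.filter isPt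
  have hOm : ∀ {P : AddSubgroup M}, P ∈ Om ↔ isPt P := by
    intro P; simp [Om]
  let s : M := ∑ P ∈ Om, F P
  -- `s` is fixed modulo `R`
  have hs : ∀ g ∈ L, g • s - s ∈ R := by
    intro g hg
    have h1 : s = ∑ P ∈ Om, F (g • P) := by
      refine (Finset.sum_bij (fun P _ => g • P) ?_ ?_ ?_ ?_).symm
      · intro P hP
        exact hOm.2 (hptg (hOm.1 hP) hg)
      · intro P _ Q _ hPQ
        exact smul_left_cancel g hPQ
      · intro Q hQ
        refine ⟨g⁻¹ • Q, hOm.2 (hptg (hOm.1 hQ) (L.inv_mem hg)), ?_⟩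
        simp
      · intro P _
        rfl
    have h2 : g • s - s = ∑ P ∈ Om, (g • F P - F (g • P)) := by
      rw [Finset.sum_sub_distrib, ← h1, Finset.smul_sum]
    rw [h2]
    exact R.sum_mem fun P hP => hF (hOm.1 hP) hg
  -- the points other than `Z₁`
  have hoth : ∑ P ∈ Om.erase Z₁, F P ∈ R := by
    rw [← QuotientAddGroup.eq_zero_iff]
    have h1 : ((∑ P ∈ Om.erase Z₁, F P : M) : M ⧸ R) = ∑ P ∈ Om.erase Z₁, ((F P : M) : M ⧸ R) :=
      map_sum (QuotientAddGroup.mk' R) _ _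
    rw [h1]
    let rel : Setoid (AddSubgroup M) :=
      { r := fun P Q => Q = P ∨ Q = a • P ∨ Q = b • P ∨ Q = a • b • P
        iseqv :=
          { refl := fun P => Or.inl rfl
            symm := by
              rintro P Q (h | h | h | h)
              · exact Or.inl h.symm
              · exact Or.inr (Or.inl (by rw [h, c.sq_smul ha]))
              · exact Or.inr (Or.inr (Or.inl (by rw [h, c.sq_smul hb])))
              · exact Or.inr (Or.inr (Or.inr (by rw [h, c.comm_smul ha hb, c.sq_smul ha, c.sq_smul hb])))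
            trans := by
              rintro P Q T (rfl | rfl | rfl | rfl) h
              · exact h
              · rcases h with rfl | rfl | rfl | rfl
                · exact Or.inr (Or.inl rfl)
                · exact Or.inl (by rw [c.sq_smul ha])
                · exact Or.inr (Or.inr (Or.inr (by rw [c.comm_smul hb ha])))
                · exact Or.inr (Or.inr (Or.inl (by rw [c.comm_smul hb ha, c.sq_smul ha])))
              · rcases h with rfl | rfl | rfl | rfl
                · exact Or.inr (Or.inr (Or.inl rfl))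
                · exact Or.inr (Or.inr (Or.inr rfl))
                · exact Or.inl (by rw [c.sq_smul hb])
                · exact Or.inr (Or.inl (by rw [c.sq_smul hb]))
              · rcases h with rfl | rfl | rfl | rfl
                · exact Or.inr (Or.inr (Or.inr rfl))
                · exact Or.inr (Or.inr (Or.inl (by rw [c.sq_smul ha])))
                · exact Or.inr (Or.inl (by rw [c.comm_smul hb ha, c.sq_smul hb]))
                · exact Or.inl (by rw [c.comm_smul ha hb, c.sq_smul ha, c.sq_smul hb]) } }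
    refine Finset.sum_cancels_of_partition_cancels rel fun P hP => ?_
    have hPne : P ≠ Z₁ := (Finset.mem_erase.1 hP).1
    have hPt : isPt P := hOm.1 (Finset.mem_erase.1 hP).2
    obtain ⟨x, hxL, hxP⟩ := id hPt
    have hxne : x • Z₁ ≠ Z₁ := by rw [hxP]; exact hPne
    have hti : ∀ {e : H}, e ∈ A → e ∉ kA A L Z₁ → e • P ≠ P := by
      intro e he hek h
      exact hek (c.ti e he x hxL hxne (by rw [hxP]; exact h))
    have hfixZ : ∀ {e : H}, e ∈ A → e • Z₁ = Z₁ := by
      intro e he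
      ext y
      rw [AddSubgroup.mem_pointwise_smul_iff_inv_smul_mem]
      constructor
      · intro hy
        have := c.cen e he _ hy
        rw [smul_inv_smul] at this
        rw [this]
        exact hy
      · intro hy
        rw [c.cen _ (A.inv_mem he) y hy]
        exact hy
    have hneZ : ∀ {e : H}, e ∈ A → e • P ≠ Z₁ := by
      intro e he h
      apply hPne
      have := congrArg (fun Q => e⁻¹ • Q) h
      simp only [inv_smul_smul] at this
      rw [this, hfixZ (A.inv_mem he)]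
    have hA := c.AL
    have haP : a • P ≠ P := hti ha hak
    have hbP : b • P ≠ P := hti hb hbk
    have habP : a • b • P ≠ P := by
      have := hti (A.mul_mem ha hb) habk
      rwa [mul_smul] at this
    have hab1 : a • P ≠ b • P := by
      intro h
      apply habP
      rw [← h, c.sq_smul ha]
    have hab2 : a • P ≠ a • b • P := by
      intro h
      exact hbP (smul_left_cancel a h).symm
    have hab3 : b • P ≠ a • b • P := by
      intro h
      rw [c.comm_smul ha hb] at h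
      exact haP (smul_left_cancel b h).symm
    have hset : (Om.erase Z₁).filter (fun Q => rel Q P) = {P, a • P, b • P, a • b • P} := by
      ext Q
      simp only [Finset.mem_filter, Finset.mem_insert, Finset.mem_singleton]
      constructor
      · exact fun h => rel.symm h.2
      · intro h
        refine ⟨?_, rel.symm h⟩
        rw [Finset.mem_erase]
        rcases h with rfl | rfl | rfl | rfl
        · exact ⟨hPne, hOm.2 hPt⟩
        · exact ⟨hneZ ha, hOm.2 (hptg hPt (hA ha))⟩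
        · exact ⟨hneZ hb, hOm.2 (hptg hPt (hA hb))⟩
        · refine ⟨?_, hOm.2 (hptg (hptg hPt (hA hb)) (hA ha))⟩
          have := hneZ (A.mul_mem ha hb)
          rwa [mul_smul] at this
    rw [hset, Finset.sum_insert, Finset.sum_insert, Finset.sum_insert, Finset.sum_singleton]
    · have e1 : ((F (a • P) : M) : M ⧸ R) = ((a • F P : M) : M ⧸ R) := by
        rw [eq_comm, QuotientAddGroup.eq_iff_sub_mem]
        exact hF hPt (hA ha)
      have e2 : ((F (b • P) : M) : M ⧸ R) = ((b • F P : M) : M ⧸ R) := by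
        rw [eq_comm, QuotientAddGroup.eq_iff_sub_mem]
        exact hF hPt (hA hb)
      have e3 : ((F (a • b • P) : M) : M ⧸ R) = ((a • b • F P : M) : M ⧸ R) := by
        rw [eq_comm, QuotientAddGroup.eq_iff_sub_mem]
        have := hF hPt (g := a * b) (L.mul_mem (hA ha) (hA hb))
        rwa [mul_smul, mul_smul] at this
      rw [e1, e2, e3, ← QuotientAddGroup.mk_add, ← QuotientAddGroup.mk_add, ← QuotientAddGroup.mk_add,
        QuotientAddGroup.eq_zero_iff]
      have h0 : F P + (a • F P + (b • F P + a • b • F P)) = 0 := by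
        rw [c.quad' ha hb (hFU hPt)]
        have := c.two (F P + a • F P + b • F P)
        calc F P + (a • F P + (b • F P + (a • F P + b • F P + F P)))
            = (F P + a • F P + b • F P) + (F P + a • F P + b • F P) := by abel
          _ = 0 := this
      rw [h0]
      exact R.zero_mem
    · simp only [Finset.mem_singleton]; exact hab3
    · simp only [Finset.mem_insert, Finset.mem_singleton, not_or]; exact ⟨hab1, hab2⟩
    · simp only [Finset.mem_insert, Finset.mem_singleton, not_or]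
      exact ⟨haP.symm, hbP.symm, habP.symm⟩
  -- so `z` is fixed modulo `R`
  have hzs : s - z ∈ R := by
    have h1 : s = F Z₁ + ∑ P ∈ Om.erase Z₁, F P := (Finset.add_sum_erase Om F (hOm.2 hpt1)).symm
    have h2 : F Z₁ - z ∈ R := by
      have := key (rep Z₁) (hrep hpt1).1 1 L.one_mem (by rw [(hrep hpt1).2, one_smul])
      rwa [one_smul] at this
    have h3 : s - z = (F Z₁ - z) + ∑ P ∈ Om.erase Z₁, F P := by rw [h1]; abel
    rw [h3]
    exact R.add_mem h2 hoth
  have hzfix : ∀ g ∈ L, g • z - z ∈ R := by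
    intro g hg
    have h1 := hRfix hzs g hg
    rw [smul_sub] at h1
    have h2 : g • z - z = g • s - s := by
      have : g • z = g • s - (s - z) := by rw [← h1]; abel
      rw [this]
      abel
    rw [h2]
    exact hs g hg
  refine ⟨hz, ?_⟩
  have hzU : z ∈ U := by
    have := c.pt 1 L.one_mem z hz
    rwa [one_smul] at this
  exact c.ker z hzU (fun a ha => c.cen a ha z hz) fun l hl m hm => hRfix (hzfix l hl) m hm

end Core

end Cfsg.Agent.Omega.OM.YThm.Two

end
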