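import Cfsg.Agent.Mrg.Omega.OM.YThm.FfRep
import Cfsg.Agent.Mrg.Omega.OM.YThm.Def

section


/-!
# THEOREM Y, part B2: the decomposition `Z₁ = ⊕ Y i` and transitivity on `C_X(A)/C_X(L)` (b8)
-/

set_option autoImplicit false

namespace Cfsg.Agent.Omega.OM.YThm.Two

open Subgroup Cfsg.Agent.ZN Cfsg.Agent.ZN.ChoiceBase Cfsg.Agent.ZN.ChoiceSit
open scoped Pointwise

variable {H : Type*} [Group H] {M : Type*} [AddCommGroup M] [DistribMulAction H M]

theorem card_mul_relIndex' {K K' : AddSubgroup M} (h : K ≤ K') :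
    Nat.card K * K.relIndex K' = Nat.card K' := by
  rw [← AddSubgroup.relIndex_bot_left, ← AddSubgroup.relIndex_bot_left,
    AddSubgroup.relIndex_mul_relIndex _ _ _ bot_le h]

theorem card_sup_mul_inf (P Q : AddSubgroup M) :
    Nat.card (P ⊔ Q : AddSubgroup M) * Nat.card (P ⊓ Q : AddSubgroup M) = Nat.card P * Nat.card Q := by
  have h1 := card_mul_relIndex' (K := Q) (K' := P ⊔ Q) le_sup_right
  have h2 := card_mul_relIndex' (K := P ⊓ Q) (K' := P) inf_le_left
  rw [AddSubgroup.relIndex_sup_right] at h1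
  rw [AddSubgroup.inf_relIndex_left] at h2
  rw [← h1, ← h2]
  ring

/-- The decomposition of `Z₁`. -/
structure Dcm {ι : Type*} [Fintype ι] (Z₁ : AddSubgroup M) (H' : Type*) [Group H'] [DistribMulAction H' M]
    (Y : ι → AddSubgroup M) : Prop where
  le : ∀ i, Y i ≤ Z₁
  dec : ∀ z ∈ Z₁, ∃ f : ι → M, (∀ i, f i ∈ Y i) ∧ z = ∑ i, f i
  uni : ∀ f : ι → M, (∀ i, f i ∈ Y i) → ∑ i, f i = 0 → ∀ i, f i = 0
  nz : ∀ i, ∃ x ∈ Y i, x ≠ 0
  prm : ∀ g : H', g • Z₁ = Z₁ → ∀ i, ∃ j, g • Y i = Y j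
  odd : ∀ g : H', g • Z₁ = Z₁ → Odd (orderOf g) → ∀ i, g • Y i = Y i → ∀ z ∈ Y i, g • z = z

namespace Dcm

variable {ι : Type*} [Fintype ι] {Z₁ : AddSubgroup M} {Y : ι → AddSubgroup M}

theorem eq_zero (D : Dcm Z₁ H Y) {i j : ι} (hij : i ≠ j) {x : M} (hi : x ∈ Y i) (hj : x ∈ Y j) : x = 0 := by
  classical
  have h := D.uni (fun k => if k = i then x else if k = j then -x else 0) (fun k => by
    by_cases h1 : k = i
    · subst h1; simpa using hi
    · by_cases h2 : k = j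
      · subst h2; simpa [h1] using hj
      · simp [h1, h2]) (by
    have e : (fun k => if k = i then x else if k = j then -x else 0) =
        fun k => (if k = i then x else 0) + (if k = j then -x else 0) := by
      funext k
      by_cases h1 : k = i
      · subst h1; simp [hij]
      · simp [h1]
    rw [e, Finset.sum_add_distrib]
    simp) i
  simpa using h

theorem exists_ne₂ {i : ι} (h4 : 4 ≤ Nat.card (Y i)) (x : M) : ∃ x' ∈ Y i, x' ≠ 0 ∧ x' ≠ x := by
  classical
  by_contra hc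
  push Not at hc
  have h1 : ∀ y : Y i, (y : M) = 0 ∨ (y : M) = x := by
    intro y
    by_cases h : (y : M) = 0
    · exact Or.inl h
    · exact Or.inr (hc y y.2 h)
  have h2 : Nat.card (Y i) ≤ Nat.card Bool := by
    refine Nat.card_le_card_of_injective (fun y : Y i => decide ((y : M) = 0)) ?_
    intro y y' h
    have h' : ((y : M) = 0) ↔ ((y' : M) = 0) := by simpa using h
    ext
    rcases h1 y with e | e <;> rcases h1 y' with e' | e'
    · rw [e, e']
    · rw [e, h'.1 e]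
    · rw [e', h'.2 e']
    · rw [e, e']
  have h3 : Nat.card Bool = 2 := by simp
  omega

theorem Y_inj (D : Dcm Z₁ H Y) {i j : ι} (h : Y i = Y j) : i = j := by
  by_contra hij
  obtain ⟨x, hx, hx0⟩ := D.nz i
  exact hx0 (D.eq_zero hij hx (h ▸ hx))

/-- the permutation induced by an element of the stabiliser of `Z₁` -/
theorem exists_perm (D : Dcm Z₁ H Y) {h : H} (hh : h • Z₁ = Z₁) : ∃ σ : Equiv.Perm ι, ∀ i, h • Y i = Y (σ i) := by
  choose f hf using D.prm h hh
  have hinj : Function.Injective f := by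
    intro i j hij
    have h1 : h • Y i = h • Y j := by rw [hf, hf, hij]
    exact D.Y_inj (smul_left_cancel h h1)
  exact ⟨Equiv.ofBijective f (Finite.injective_iff_bijective.1 hinj), hf⟩

theorem perm_pow (_D : Dcm Z₁ H Y) {h : H} {σ : Equiv.Perm ι} (hσ : ∀ i, h • Y i = Y (σ i)) (n : ℕ) (i : ι) :
    h ^ n • Y i = Y ((σ ^ n) i) := by
  induction n generalizing i with
  | zero => simp
  | succ n ih => rw [pow_succ', mul_smul, ih, hσ, pow_succ', Equiv.Perm.mul_apply]

/-- an element of odd order induces no 2-cycle -/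
theorem no_swap (D : Dcm Z₁ H Y) {h : H} {σ : Equiv.Perm ι} (hσ : ∀ i, h • Y i = Y (σ i)) (ho : Odd (orderOf h))
    {i j : ι} (h1 : σ i = j) (h2 : σ j = i) : i = j := by
  have h3 : (σ ^ orderOf h) i = i := by
    have := D.perm_pow hσ (orderOf h) i
    rw [pow_orderOf_eq_one, one_smul] at this
    exact (D.Y_inj this).symm
  obtain ⟨k, hk⟩ := ho
  have h4 : ∀ m, (σ ^ (2 * m)) i = i := by
    intro m
    induction m with
    | zero => simp
    | succ m ih =>
      have e : 2 * (m + 1) = 2 + 2 * m := by ring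
      rw [e, pow_add, Equiv.Perm.mul_apply, ih, pow_two, Equiv.Perm.mul_apply, h1, h2]
  rw [hk, pow_succ', Equiv.Perm.mul_apply, h4, h1] at h3
  exact h3.symm

/-- components of a fixed vector -/
theorem comp (D : Dcm Z₁ H Y) {h : H} {σ : Equiv.Perm ι} (hσ : ∀ i, h • Y i = Y (σ i)) (f : ι → M)
    (hf : ∀ i, f i ∈ Y i) (hr : h • ∑ i, f i = ∑ i, f i) (i : ι) : h • f i = f (σ i) := by
  have h1 := D.uni (fun j => h • f (σ.symm j) - f j) (fun j => by
    refine sub_mem ?_ (hf j)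
    have := AddSubgroup.smul_mem_pointwise_smul _ h _ (hf (σ.symm j))
    rwa [hσ, Equiv.apply_symm_apply] at this) (by
    rw [Finset.sum_sub_distrib, Equiv.sum_comp σ.symm (fun j => h • f j), ← Finset.smul_sum, hr, sub_self]) (σ i)
  simp only [Equiv.symm_apply_apply] at h1
  exact sub_eq_zero.1 h1

theorem comp_ne (D : Dcm Z₁ H Y) {h : H} {σ : Equiv.Perm ι} (hσ : ∀ i, h • Y i = Y (σ i)) (f : ι → M)
    (hf : ∀ i, f i ∈ Y i) (hr : h • ∑ i, f i = ∑ i, f i) {i : ι} (hi : f i ≠ 0) : f (σ i) ≠ 0 := by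
  rw [← D.comp hσ f hf hr i]
  intro e
  apply hi
  rwa [smul_eq_zero_iff_eq] at e

/-- the vector `x_i - y_j` (`i ≠ j`, one of them nonzero) is not fixed by `h` odd with `σ i ≠ i` -/
theorem pair (D : Dcm Z₁ H Y) {h : H} {σ : Equiv.Perm ι} (hσ : ∀ i, h • Y i = Y (σ i)) (ho : Odd (orderOf h))
    {i j : ι} (hi : σ i ≠ i) {x y : M} (hx : x ∈ Y i) (hy : y ∈ Y j) (hr : h • (x + y) = x + y)
    (hij : i ≠ j) : x = 0 := by
  classical
  by_contra hx0
  let f : ι → M := fun k => (if k = i then x else 0) + (if k = j then y else 0)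
  have hf : ∀ k, f k ∈ Y k := by
    intro k
    refine add_mem ?_ ?_
    · by_cases h1 : k = i
      · subst h1; simpa using hx
      · simp [h1]
    · by_cases h1 : k = j
      · subst h1; simpa using hy
      · simp [h1]
  have hs : ∑ k, f k = x + y := by
    simp only [f, Finset.sum_add_distrib]
    simp
  rw [← hs] at hr
  have hfi : f i ≠ 0 := by simpa [f, hij] using hx0
  have h1 := D.comp_ne hσ f hf hr hfi
  have h2 : σ i = j := by
    by_contra h2
    exact h1 (by simp [f, hi, h2])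
  rw [h2] at h1
  have h3 := D.comp_ne hσ f hf hr h1
  have h4 : σ j = i ∨ σ j = j := by
    by_contra h4
    push Not at h4
    exact h3 (by simp [f, h4.1, h4.2])
  rcases h4 with h4 | h4
  · exact hij (D.no_swap hσ ho h2 h4)
  · exact hij (σ.injective (h2.trans h4.symm))

/-- a nonzero vector of one component is not fixed by `h` with `σ i ≠ i` -/
theorem single (D : Dcm Z₁ H Y) {h : H} {σ : Equiv.Perm ι} (hσ : ∀ i, h • Y i = Y (σ i))
    {i : ι} (hi : σ i ≠ i) {x : M} (hx : x ∈ Y i) (hr : h • x = x) : x = 0 := by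
  refine D.eq_zero hi ?_ hx
  have := AddSubgroup.smul_mem_pointwise_smul _ h _ hx
  rwa [hσ, hr] at this

/-- three components: `x_i + y_j + w_l` fixed by `h` odd, `σ i = j ≠ i`, `x, y ≠ 0` ==> `l = σ j` -/
theorem triple (D : Dcm Z₁ H Y) {h : H} {σ : Equiv.Perm ι} (hσ : ∀ i, h • Y i = Y (σ i)) (ho : Odd (orderOf h))
    {i j l : ι} (hi : σ i = j) (hij : i ≠ j) {x y w : M} (hx : x ∈ Y i) (hy : y ∈ Y j) (hw : w ∈ Y l)
    (hx0 : x ≠ 0) (hy0 : y ≠ 0) (hr : h • (x + y + w) = x + y + w) : l = σ j := by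
  classical
  have hsj : σ j ≠ j := fun e => hij (σ.injective (hi.trans e.symm))
  have hsi : σ j ≠ i := fun e => hij (D.no_swap hσ ho hi e)
  let f : ι → M := fun k => (if k = i then x else 0) + (if k = j then y else 0) + (if k = l then w else 0)
  have hf : ∀ k, f k ∈ Y k := by
    intro k
    refine add_mem (add_mem ?_ ?_) ?_
    · by_cases h1 : k = i
      · subst h1; simpa using hx
      · simp [h1]
    · by_cases h1 : k = j
      · subst h1; simpa using hy
      · simp [h1]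
    · by_cases h1 : k = l
      · subst h1; simpa using hw
      · simp [h1]
  have hs : ∑ k, f k = x + y + w := by
    simp only [f, Finset.sum_add_distrib]
    simp
  rw [← hs] at hr
  by_contra hl
  have h0 : f (σ j) = 0 := by simp [f, hsi, hsj, Ne.symm hl]
  have hfj : f j = 0 := by
    by_contra hc
    exact D.comp_ne hσ f hf hr hc h0
  have hfi : f i = 0 := by
    by_contra hc
    have := D.comp_ne hσ f hf hr hc
    rw [hi] at this
    exact this hfj
  -- `f i = x + [i = l] w`, `f j = y + [j = l] w`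
  by_cases h1 : j = l
  · have h2 : i ≠ l := fun e => hij (e.trans h1.symm)
    exact hx0 (by simpa [f, hij, h2] using hfi)
  · exact hy0 (by simpa [f, hij.symm, h1] using hfj)

end Dcm

namespace Core

variable {A L : Subgroup H} {Z₁ U : AddSubgroup M}

/-- Transitivity of `L₀` on the nonzero elements of `C_X(A)/C_X(L)`. -/
theorem trans [Finite H] [Finite M] (c : Core A L Z₁ U) {X : AddSubgroup M} (hXU : X ≤ U)
    (hX : ∀ l ∈ L, ∀ x ∈ X, l • x ∈ X) (hk : ∀ b ∈ kA A L Z₁, ∀ x ∈ X, b • x = x)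
    (ff : Nat.card X * Nat.card (ct A X) ≤ Nat.card A * Nat.card (fx X A))
    {v v' : M} (hv : v ∈ fx X A) (hv' : v' ∈ fx X A) (hvL : v ∉ fx X L) (hvL' : v' ∉ fx X L) :
    ∃ g ∈ L, g • Z₁ = Z₁ ∧ g • v - v' ∈ fx X L := by
  classical
  have hLA : fx X L ≤ fx X A := fun x hx => ⟨hx.1, fun a ha => hx.2 a (c.AL ha)⟩
  obtain ⟨d, hd, hdne⟩ := c.ne
  -- `C_X(A) ∩ C_X(A^d) = C_X(L)`
  have hint : ∀ {x : H}, x ∈ L → x • Z₁ ≠ Z₁ → fx X A ⊓ fx X (cj x A) = fx X L := by
    intro x hx hxne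
    apply le_antisymm
    · rintro y ⟨h1, h2⟩
      refine ⟨h1.1, c.fixA y (hXU h1.1) x hx hxne h1.2 fun a ha => h2.2 _ ?_⟩
      rw [mem_cj]
      have e : x⁻¹ * (x * a * x⁻¹) * x = a := by group
      rwa [e]
    · intro y hy
      refine ⟨hLA hy, hy.1, fun a ha => hy.2 a ?_⟩
      rw [mem_cj] at ha
      have e : x * (x⁻¹ * a * x) * x⁻¹ = a := by group
      rw [← e]
      exact L.mul_mem (L.mul_mem hx (c.AL ha)) (L.inv_mem hx)
  have hmemcj : ∀ {x : H}, x ∈ L → ∀ {y : M}, y ∈ fx X A → x • y ∈ fx X (cj x A) := by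
    intro x hx y hy
    refine ⟨hX x hx y hy.1, fun a ha => ?_⟩
    rw [mem_cj] at ha
    have := hy.2 _ ha
    rw [mul_smul, mul_smul, inv_smul_eq_iff] at this
    exact this
  have hcard : ∀ {x : H}, x ∈ L → Nat.card (fx X A) ≤ Nat.card (fx X (cj x A)) := by
    intro x hx
    refine Nat.card_le_card_of_injective (fun y : fx X A => (⟨x • (y : M), hmemcj hx y.2⟩ : fx X (cj x A))) ?_
    intro y y' h
    have : x • (y : M) = x • (y' : M) := congrArg Subtype.val h
    ext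
    exact smul_left_cancel x this
  -- the count
  have hq : Nat.card (fx X A) * Nat.card (kA A L Z₁) ≤ Nat.card A * Nat.card (fx X L) := by
    have h1 : Nat.card (kA A L Z₁) ≤ Nat.card (ct A X) :=
      Subgroup.card_le_of_le fun b hb => ⟨hb.1, hk b hb⟩
    have h2 : Nat.card (fx X A ⊔ fx X (cj d A) : AddSubgroup M) * Nat.card (fx X L) =
        Nat.card (fx X A) * Nat.card (fx X (cj d A)) := by
      rw [← hint hd hdne]
      exact card_sup_mul_inf _ _
    have h3 : Nat.card (fx X A ⊔ fx X (cj d A) : AddSubgroup M) ≤ Nat.card X :=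
      AddSubgroup.card_le_of_le (sup_le (fun y hy => hy.1) fun y hy => hy.1)
    have h4 := hcard hd
    have hpos : 0 < Nat.card (fx X A) := Nat.card_pos
    have h5 : Nat.card (fx X A) * (Nat.card (fx X A) * Nat.card (kA A L Z₁)) ≤
        Nat.card (fx X A) * (Nat.card A * Nat.card (fx X L)) := by
      calc Nat.card (fx X A) * (Nat.card (fx X A) * Nat.card (kA A L Z₁))
          ≤ Nat.card (fx X A) * (Nat.card (fx X (cj d A)) * Nat.card (kA A L Z₁)) :=
            Nat.mul_le_mul_left _ (Nat.mul_le_mul_right _ h4)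
        _ = Nat.card (fx X A ⊔ fx X (cj d A) : AddSubgroup M) * Nat.card (fx X L) * Nat.card (kA A L Z₁) := by
            rw [h2]; ring
        _ ≤ Nat.card X * Nat.card (fx X L) * Nat.card (ct A X) :=
            Nat.mul_le_mul (Nat.mul_le_mul_right _ h3) h1
        _ = Nat.card X * Nat.card (ct A X) * Nat.card (fx X L) := by ring
        _ ≤ Nat.card A * Nat.card (fx X A) * Nat.card (fx X L) := Nat.mul_le_mul_right _ ff
        _ = Nat.card (fx X A) * (Nat.card A * Nat.card (fx X L)) := by ring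
    exact Nat.le_of_mul_le_mul_left h5 hpos
  -- surjectivity
  have hsurj : ∀ {x : H}, x ∈ L → x • Z₁ ≠ Z₁ → ∀ w ∈ fx X (cj x A), w ∉ fx X L → ∀ u ∈ fx X A,
      ∃ a ∈ A, a • w - w - u ∈ fx X L := by
    intro x hx hxne w hw hwL u hu
    have hwU := hXU hw.1
    have hhom : ∀ a ∈ A, ∀ b ∈ A, (a * b) • w - w = (a • w - w) + (b • w - w) := by
      intro a ha b hb
      have h1 := c.quad a ha b hb w hwU
      rw [smul_sub] at h1
      have h2 : (a * b) • w = a • w + (b • w - w) := by rw [mul_smul, ← h1]; abel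
      rw [h2]
      abel
    let ψ : A →* Multiplicative (M ⧸ fx X L) :=
      { toFun := fun a => Multiplicative.ofAdd (((a : H) • w - w : M) : M ⧸ fx X L)
        map_one' := by simp
        map_mul' := fun a b => by
          rw [← ofAdd_add, ← QuotientAddGroup.mk_add]
          congr 2
          exact hhom a a.2 b b.2 }
    have hker : ψ.ker = (kA A L Z₁).subgroupOf A := by
      ext a
      rw [MonoidHom.mem_ker, Subgroup.mem_subgroupOf]
      have h1 : ψ a = 1 ↔ ((a : H) • w - w : M) ∈ fx X L := by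
        rw [← QuotientAddGroup.eq_zero_iff]
        exact Iff.rfl
      rw [h1]
      constructor
      · intro h
        by_contra hak
        have h2 := c.inj a a.2 hak w hwU h.2
        have h3 : w ∈ fx X A ⊓ fx X (cj x A) := ⟨⟨hw.1, h2⟩, hw⟩
        rw [hint hx hxne] at h3
        exact hwL h3
      · intro h
        rw [hk _ h w hw.1, sub_self]
        exact zero_mem _
    let T : AddSubgroup (M ⧸ fx X L) := (fx X A).map (QuotientAddGroup.mk' (fx X L))
    have hT : Nat.card (fx X L) * Nat.card T = Nat.card (fx X A) := by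
      rw [← card_mul_relIndex' hLA]
      congr 1
      have h1 := AddSubgroup.relIndex_ker (QuotientAddGroup.mk' (fx X L)) (K := fx X A)
      rw [QuotientAddGroup.ker_mk'] at h1
      exact h1.symm
    have hr : Nat.card (kA A L Z₁) * Nat.card ψ.range = Nat.card A := by
      have h1 : (kA A L Z₁) ≤ A := fun b hb => hb.1
      rw [← Subgroup.index_ker, hker, ← Subgroup.card_mul_index ((kA A L Z₁).subgroupOf A),
        Nat.card_congr (Subgroup.subgroupOfEquivOfLe h1).toEquiv]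
    have hle : ∀ y ∈ ψ.range, Multiplicative.toAdd y ∈ T := by
      rintro y ⟨a, rfl⟩
      exact ⟨(a : H) • w - w, ⟨sub_mem (hX _ (c.AL a.2) w hw.1) hw.1, fun b hb => c.quad b hb a a.2 w hwU⟩, rfl⟩
    have hcardle : Nat.card T ≤ Nat.card ψ.range := by
      have hp1 : 0 < Nat.card (kA A L Z₁) := Nat.card_pos
      have hp2 : 0 < Nat.card (fx X L) := Nat.card_pos
      have h1 : (Nat.card (kA A L Z₁) * Nat.card (fx X L)) * Nat.card T ≤
          (Nat.card (kA A L Z₁) * Nat.card (fx X L)) * Nat.card ψ.range := by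
        calc (Nat.card (kA A L Z₁) * Nat.card (fx X L)) * Nat.card T
            = (Nat.card (fx X L) * Nat.card T) * Nat.card (kA A L Z₁) := by ring
          _ = Nat.card (fx X A) * Nat.card (kA A L Z₁) := by rw [hT]
          _ ≤ Nat.card A * Nat.card (fx X L) := hq
          _ = (Nat.card (kA A L Z₁) * Nat.card ψ.range) * Nat.card (fx X L) := by rw [hr]
          _ = _ := by ring
      exact Nat.le_of_mul_le_mul_left h1 (Nat.mul_pos hp1 hp2)
    have hinj : Function.Injective (fun y : ψ.range => (⟨Multiplicative.toAdd (y : Multiplicative (M ⧸ fx X L)),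
        hle y y.2⟩ : T)) := by
      intro y y' h
      have : Multiplicative.toAdd (y : Multiplicative (M ⧸ fx X L)) =
          Multiplicative.toAdd (y' : Multiplicative (M ⧸ fx X L)) := congrArg (fun t : T => (t : M ⧸ fx X L)) h
      exact Subtype.ext (Multiplicative.toAdd.injective this)
    have hbij : Function.Bijective (fun y : ψ.range => (⟨Multiplicative.toAdd (y : Multiplicative (M ⧸ fx X L)),
        hle y y.2⟩ : T)) :=
      (Nat.bijective_iff_injective_and_card _).2 ⟨hinj, le_antisymm (Nat.card_le_card_of_injective _ hinj) hcardle⟩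
    obtain ⟨⟨y, a, rfl⟩, hy⟩ := hbij.2 ⟨((u : M) : M ⧸ fx X L), u, hu, rfl⟩
    refine ⟨a, a.2, ?_⟩
    have h1 : (((a : H) • w - w : M) : M ⧸ fx X L) = ((u : M) : M ⧸ fx X L) := congrArg Subtype.val hy
    rw [QuotientAddGroup.eq_iff_sub_mem] at h1
    exact h1
  -- transitivity
  have hRfix : ∀ {r : M}, r ∈ fx X L → ∀ l ∈ L, l • r = r := fun hr => hr.2
  have hRmem : ∀ {l : H}, l ∈ L → ∀ {y : M}, l • y ∈ fx X L → y ∈ fx X L := by
    intro l hl y hy
    have h1 := hRfix hy l⁻¹ (L.inv_mem hl)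
    rw [inv_smul_smul] at h1
    rw [h1]
    exact hy
  -- `w := d • v'`
  have hw : d • v' ∈ fx X (cj d A) := hmemcj hd hv'
  have hwL : d • v' ∉ fx X L := fun h => hvL' (hRmem hd h)
  obtain ⟨a, ha, ha'⟩ := hsurj hd hdne _ hw hwL v hv
  -- symmetric version
  have hdi : d⁻¹ • Z₁ ≠ Z₁ := by
    intro h
    rw [inv_smul_eq_iff] at h
    exact hdne h.symm
  have hw2 : d⁻¹ • v ∈ fx X (cj d⁻¹ A) := hmemcj (L.inv_mem hd) hv
  have hw2L : d⁻¹ • v ∉ fx X L := fun h => hvL (hRmem (L.inv_mem hd) h)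
  obtain ⟨a₁, ha₁, ha₁'⟩ := hsurj (L.inv_mem hd) hdi _ hw2 hw2L v' hv'
  -- `(d a₁) d⁻¹ v ≡ v + d v'` and `a d v' ≡ v + d v'`
  have e1 : (d * a₁ * d⁻¹) • v - v - d • v' ∈ fx X L := by
    have h1 := hRfix ha₁' d hd
    have h2 : (d * a₁ * d⁻¹) • v - v - d • v' = d • (a₁ • d⁻¹ • v - d⁻¹ • v - v') := by
      rw [smul_sub, smul_sub, smul_inv_smul, mul_smul, mul_smul]
    rw [h2, h1]
    exact ha₁'
  have hda : d * a₁ * d⁻¹ ∈ L := L.mul_mem (L.mul_mem hd (c.AL ha₁)) (L.inv_mem hd)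
  have haL := c.AL ha
  -- so `(a d)⁻¹ (d a₁ d⁻¹) v ≡ v'`
  have e2 : (d * a₁ * d⁻¹) • v - a • d • v' ∈ fx X L := by
    have h1 := sub_mem e1 ha'
    have h2 : (d * a₁ * d⁻¹) • v - v - d • v' - (a • d • v' - d • v' - v) =
        (d * a₁ * d⁻¹) • v - a • d • v' := by abel
    rwa [h2] at h1
  have hg : (a * d)⁻¹ * (d * a₁ * d⁻¹) ∈ L := L.mul_mem (L.inv_mem (L.mul_mem haL hd)) hda
  have e3 : ((a * d)⁻¹ * (d * a₁ * d⁻¹)) • v - v' ∈ fx X L := by
    apply hRmem (L.mul_mem haL hd)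
    have h2 : (a * d) • (((a * d)⁻¹ * (d * a₁ * d⁻¹)) • v - v') = (d * a₁ * d⁻¹) • v - a • d • v' := by
      rw [smul_sub, ← mul_smul, mul_inv_cancel_left, mul_smul a d v']
    rw [h2]
    exact e2
  refine ⟨_, hg, ?_, e3⟩
  by_contra hgne
  set g := (a * d)⁻¹ * (d * a₁ * d⁻¹) with hgdef
  have h1 : g • v ∈ fx X A := by
    have := add_mem (hLA e3) hv'
    rwa [sub_add_cancel] at this
  have h2 : g • v ∈ fx X A ⊓ fx X (cj g A) := ⟨h1, hmemcj hg hv⟩
  rw [hint hg hgne] at h2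
  exact hvL (hRmem hg h2)

end Core

end Cfsg.Agent.Omega.OM.YThm.Two

end

section


/-!
# THEOREM Y, part B2: (b8) and `|A : kA| = 2`

* `core` : the facts (b1)-(b6) as `Core`; `exists_dcm` : the decomposition of `Z₁`;
* `Core.kA_fix` : `kA` centralises `l • Y i` if an odd element of `L₀` moves `Y i`;
* `Core.mod_step` : every element of `C_X(A)` is congruent to an element of some `Y l` modulo `C_X(L)`;
* `YS.card_eq`.
-/

set_option autoImplicit false

namespace Cfsg.Agent.Omega.OM.YThm.Two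

open Subgroup Cfsg.Agent.ZN Cfsg.Agent.ZN.ChoiceBase Cfsg.Agent.ZN.ChoiceSit
open scoped Pointwise

variable {H : Type*} [Group H] {M : Type*} [AddCommGroup M] [DistribMulAction H M]

/-- an element of odd order of `L₀` moves `Y i` -/
def Mv (L : Subgroup H) (Z₁ : AddSubgroup M) {ι : Type*} (Y : ι → AddSubgroup M) (i : ι) : Prop :=
  ∃ h ∈ L, h • Z₁ = Z₁ ∧ Odd (orderOf h) ∧ h • Y i ≠ Y i

/-- the submodule generated by the moved components -/
def XX (L : Subgroup H) (Z₁ : AddSubgroup M) {ι : Type*} (Y : ι → AddSubgroup M) : AddSubgroup M :=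
  AddSubgroup.closure {u | ∃ l ∈ L, ∃ i, Mv L Z₁ Y i ∧ ∃ y ∈ Y i, u = l • y}

section

variable {A L : Subgroup H} {Z₁ U : AddSubgroup M} {ι : Type*} [Fintype ι] {Y : ι → AddSubgroup M}

omit [Fintype ι] in
theorem Mv.smul {i j : ι} (hi : Mv L Z₁ Y i) {l : H} (hl : l ∈ L) (hlZ : l • Z₁ = Z₁) (hij : l • Y i = Y j) :
    Mv L Z₁ Y j := by
  obtain ⟨h, hh, hhZ, ho, hne⟩ := hi
  have hlZ' : l⁻¹ • Z₁ = Z₁ := by rw [inv_smul_eq_iff, hlZ]
  have hj : l⁻¹ • Y j = Y i := by rw [← hij, inv_smul_smul]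
  refine ⟨l * h * l⁻¹, L.mul_mem (L.mul_mem hl hh) (L.inv_mem hl), ?_, ?_, ?_⟩
  · rw [mul_smul, mul_smul, hlZ', hhZ, hlZ]
  · have : orderOf (l * h * l⁻¹) = orderOf h := by
      have := orderOf_injective (MulAut.conj l).toMonoidHom (MulAut.conj l).injective h
      simpa using this
    rw [this]
    exact ho
  · intro e
    apply hne
    rw [mul_smul, mul_smul, hj, ← hij] at e
    exact smul_left_cancel l e

omit [Fintype ι] in
theorem XX_smul {l : H} (hl : l ∈ L) {x : M} (hx : x ∈ XX L Z₁ Y) : l • x ∈ XX L Z₁ Y := by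
  refine AddSubgroup.closure_induction (p := fun x _ => l • x ∈ XX L Z₁ Y) ?_ ?_ ?_ ?_ hx
  · rintro _ ⟨m, hm, i, hi, y, hy, rfl⟩
    exact AddSubgroup.subset_closure ⟨l * m, L.mul_mem hl hm, i, hi, y, hy, (mul_smul _ _ _).symm⟩
  · rw [smul_zero]; exact zero_mem _
  · intro x y _ _ h1 h2
    rw [smul_add]; exact add_mem h1 h2
  · intro x _ h1
    rw [smul_neg]; exact neg_mem h1

omit [Fintype ι] in
theorem mem_XX {i : ι} (hi : Mv L Z₁ Y i) {y : M} (hy : y ∈ Y i) : y ∈ XX L Z₁ Y :=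
  AddSubgroup.subset_closure ⟨1, L.one_mem, i, hi, y, hy, (one_smul H y).symm⟩

namespace Core

theorem XX_le (c : Core A L Z₁ U) (D : Dcm Z₁ H Y) : XX L Z₁ Y ≤ U := by
  rw [XX, AddSubgroup.closure_le]
  rintro _ ⟨l, hl, i, _, y, hy, rfl⟩
  exact c.pt l hl y (D.le i hy)

theorem kA_fix (c : Core A L Z₁ U) (D : Dcm Z₁ H Y) {i : ι} (hi : Mv L Z₁ Y i) {b : H} (hb : b ∈ kA A L Z₁)
    {l : H} (hl : l ∈ L) {y : M} (hy : y ∈ Y i) : b • l • y = l • y := by
  obtain ⟨h, hh, hhZ, ho, hne⟩ := hi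
  have hr := c.sub b hb l hl y (D.le i hy)
  set b₀ := l⁻¹ * b * l with hb₀
  have hb₀Z : b₀ • Z₁ = Z₁ := by
    rw [hb₀, mul_smul, mul_smul, hb.2 l hl, inv_smul_smul]
  have hrl : b₀ • y - y = b • l • y - l • y := by
    have h1 := hr.2 l⁻¹ (L.inv_mem hl)
    rw [smul_sub, inv_smul_smul] at h1
    rw [hb₀, mul_smul, mul_smul]
    exact h1
  rw [← hrl] at hr
  obtain ⟨σ, hσ⟩ := D.exists_perm hhZ
  have hσi : σ i ≠ i := fun e => hne (by rw [hσ, e])
  obtain ⟨j, hj⟩ := D.prm b₀ hb₀Z i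
  have hby : b₀ • y ∈ Y j := by
    rw [← hj]
    exact AddSubgroup.smul_mem_pointwise_smul _ _ _ hy
  have hz : b₀ • y - y = 0 := by
    by_cases hij : i = j
    · subst hij
      exact D.single hσ hσi (sub_mem hby hy) (hr.2 h hh)
    · have h1 : h • (-y + b₀ • y) = -y + b₀ • y := by
        have := hr.2 h hh
        rwa [sub_eq_neg_add] at this
      have h2 := D.pair hσ ho hσi (neg_mem hy) hby h1 hij
      rw [neg_eq_zero] at h2
      rw [h2, smul_zero, sub_zero]
  rw [hrl] at hz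
  exact sub_eq_zero.1 hz

theorem kA_fix_XX (c : Core A L Z₁ U) (D : Dcm Z₁ H Y) {b : H} (hb : b ∈ kA A L Z₁) {x : M}
    (hx : x ∈ XX L Z₁ Y) : b • x = x := by
  refine AddSubgroup.closure_induction (p := fun x _ => b • x = x) ?_ ?_ ?_ ?_ hx
  · rintro _ ⟨m, hm, i, hi, y, hy, rfl⟩
    exact c.kA_fix D hi hb hm hy
  · rw [smul_zero]
  · intro x y _ _ h1 h2
    rw [smul_add, h1, h2]
  · intro x _ h1
    rw [smul_neg, h1]

theorem mem_fxA (c : Core A L Z₁ U) (D : Dcm Z₁ H Y) {i : ι} (hi : Mv L Z₁ Y i) {y : M} (hy : y ∈ Y i) :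
    y ∈ fx (XX L Z₁ Y) A := ⟨mem_XX hi hy, fun a ha => c.cen a ha y (D.le i hy)⟩

/-- every element of `C_X(A)` is congruent to an element of some moved `Y l` modulo `C_X(L)` -/
theorem mod_step [Finite H] [Finite M] (c : Core A L Z₁ U) (D : Dcm Z₁ H Y)
    (ff : ∀ X : AddSubgroup M, (∀ a ∈ A, ∀ x ∈ X, a • x ∈ X) →
      Nat.card X * Nat.card (ct A X) ≤ Nat.card A * Nat.card (fx X A))
    {i : ι} (hi : Mv L Z₁ Y i) {v : M} (hv : v ∈ fx (XX L Z₁ Y) A) :
    ∃ l : ι, Mv L Z₁ Y l ∧ ∃ w ∈ Y l, v - w ∈ fx (XX L Z₁ Y) L := by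
  by_cases hvL : v ∈ fx (XX L Z₁ Y) L
  · exact ⟨i, hi, 0, zero_mem _, by rwa [sub_zero]⟩
  · obtain ⟨h, hh, hhZ, ho, hne⟩ := id hi
    obtain ⟨σ, hσ⟩ := D.exists_perm hhZ
    have hσi : σ i ≠ i := fun e => hne (by rw [hσ, e])
    obtain ⟨y, hy, hy0⟩ := D.nz i
    have hyL : y ∉ fx (XX L Z₁ Y) L := fun hc => hy0 (D.single hσ hσi hy (hc.2 h hh))
    obtain ⟨g, hg, hgZ, hgv⟩ := c.trans (c.XX_le D) (fun l hl x hx => XX_smul hl hx)
      (fun b hb x hx => c.kA_fix_XX D hb hx) (ff _ fun a ha x hx => XX_smul (c.AL ha) hx)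
      (c.mem_fxA D hi hy) hv hyL hvL
    obtain ⟨j, hj⟩ := D.prm g hgZ i
    refine ⟨j, hi.smul hg hgZ hj, g • y, ?_, ?_⟩
    · rw [← hj]
      exact AddSubgroup.smul_mem_pointwise_smul _ _ _ hy
    · have := neg_mem hgv
      rwa [neg_sub] at this

/-- (b8), the end: no `Y i` of order `≥ 4` is moved -/
theorem false_of_mv [Finite H] [Finite M] (c : Core A L Z₁ U) (D : Dcm Z₁ H Y)
    (ff : ∀ X : AddSubgroup M, (∀ a ∈ A, ∀ x ∈ X, a • x ∈ X) →
      Nat.card X * Nat.card (ct A X) ≤ Nat.card A * Nat.card (fx X A))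
    {i : ι} (h4 : 4 ≤ Nat.card (Y i)) (hi : Mv L Z₁ Y i) : False := by
  obtain ⟨h, hh, hhZ, ho, hne⟩ := id hi
  obtain ⟨σ, hσ⟩ := D.exists_perm hhZ
  have hσi : σ i ≠ i := fun e => hne (by rw [hσ, e])
  have hMj : Mv L Z₁ Y (σ i) := hi.smul hh hhZ (hσ i)
  obtain ⟨x, hx, hx0⟩ := D.nz i
  obtain ⟨y, hy, hy0⟩ := D.nz (σ i)
  obtain ⟨x', hx', hx'0, hx'x⟩ := Dcm.exists_ne₂ h4 x
  have key : ∀ x ∈ Y i, x ≠ 0 → ∃ w ∈ Y (σ (σ i)), x + y - w ∈ fx (XX L Z₁ Y) L := by
    intro x hx hx0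
    obtain ⟨l, _, w, hw, hr⟩ := c.mod_step D ff hi (add_mem (c.mem_fxA D hi hx) (c.mem_fxA D hMj hy))
    have h1 : h • (x + y + -w) = x + y + -w := by
      have := hr.2 h hh
      rwa [sub_eq_add_neg] at this
    have h2 := D.triple hσ ho rfl hσi.symm hx hy (neg_mem hw) hx0 hy0 h1
    subst h2
    exact ⟨w, hw, hr⟩
  obtain ⟨w, hw, hr⟩ := key x hx hx0
  obtain ⟨w', hw', hr'⟩ := key x' hx' hx'0
  have h1 := (sub_mem hr hr').2 h hh
  have e : x + y - w - (x' + y - w') = (x - x') + (w' - w) := by abel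
  rw [e] at h1
  have h2 := D.pair hσ ho hσi (sub_mem hx hx') (sub_mem hw' hw) h1 (fun e => hσi (D.no_swap hσ ho rfl e.symm).symm)
  exact hx'x (sub_eq_zero.1 h2).symm

end Core

end

/-! ### the plug -/

variable {𝒜 : Set (Subgroup H)} {S : Subgroup H} {Z : AddSubgroup M} {A J₀ L : Subgroup H} {Z₁ : AddSubgroup M}
  {ι : Type*} [Fintype ι] {Zi : ι → AddSubgroup M}

theorem core (h : YS0 𝒜 S Zi Z) (d : LD 𝒜 S Z A J₀ L Z₁) : Core A L Z₁ (UU L Z₁) where
  two := h.two
  el := h.el A d.mem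
  AL := d.AL
  cen := d.cen
  ne := d.ne
  pt := fun _ hl _ hz => smul_mem_UU hl hz
  fixA := fun _ hu _ hx hx' h1 h2 => d.fix1 hx hx' hu h1 h2
  ker := fun _ hu h1 h2 => d.ker hu (fun l hl => ⟨hl, sub_mem (smul_UU hl hu) hu, fun m hm => h2 l hl m hm⟩)
    L.one_mem (fun b hb => by rw [one_mul, inv_one, mul_one]; exact h1 b hb)
  inj := fun _ ha hk _ hu h1 => d.fix_all ha hk hu (d.comm_zero ha hk hu h1)
  ti := fun _ ha _ hx hx' h1 => d.ti ha hx hx' h1
  sub := fun _ hb l hl _ hz => d.kA_mem hb hl (AddSubgroup.smul_mem_pointwise_smul _ l _ hz)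
  quad := fun _ ha _ hb _ hu => d.quadU ha hb hu

theorem exists_smul_eq [Finite H] (h : YS0 𝒜 S Zi Z) (d : LD 𝒜 S Z A J₀ L Z₁) : ∃ g : H, g • Z = Z₁ := by
  have h1 : A ≤ normalizer (J₀ : Set H) := fun a ha => mem_normalizer_iff_cj.2 (d.JN a (d.AL ha))
  have h2 : IsPGroup 2 (A ⊔ J₀ : Subgroup H) := (h.el A d.mem).pg.to_sup_of_normal_right' d.J2 h1
  obtain ⟨g, -, hg⟩ := d.syl (A ⊔ J₀) le_sup_left le_sup_right (sup_le d.AL d.JL) h2
  exact ⟨g, hg⟩

theorem dcm (h : YS0 𝒜 S Zi Z) (hnz : ∀ i, ∃ x ∈ Zi i, x ≠ 0) {g : H} (hg : g • Z = Z₁) :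
    Dcm Z₁ H (fun i => g • Zi i) where
  le := fun i => by
    rw [← hg, AddSubgroup.pointwise_smul_le_pointwise_smul_iff]
    exact h.ZiZ i
  dec := fun z hz => by
    rw [← hg, AddSubgroup.mem_pointwise_smul_iff_inv_smul_mem] at hz
    obtain ⟨f, hf, e⟩ := h.dec _ hz
    refine ⟨fun i => g • f i, fun i => AddSubgroup.smul_mem_pointwise_smul _ _ _ (hf i), ?_⟩
    rw [← Finset.smul_sum, ← e, smul_inv_smul]
  uni := fun f hf hs i => by
    have h1 := h.uni (fun i => g⁻¹ • f i) (fun i => by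
      rw [← AddSubgroup.mem_pointwise_smul_iff_inv_smul_mem]; exact hf i) (by
      rw [← Finset.smul_sum, hs, smul_zero]) i
    exact (smul_eq_zero_iff_eq _).1 h1
  nz := fun i => by
    obtain ⟨x, hx, hx0⟩ := hnz i
    exact ⟨g • x, AddSubgroup.smul_mem_pointwise_smul _ _ _ hx, fun e => hx0 ((smul_eq_zero_iff_eq _).1 e)⟩
  prm := fun k hk i => by
    have h1 : (g⁻¹ * k * g) • Z = Z := by rw [mul_smul, mul_smul, hg, hk, ← hg, inv_smul_smul]
    obtain ⟨j, hj⟩ := h.prm _ h1 i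
    refine ⟨j, ?_⟩
    rw [← hj, mul_smul, mul_smul, smul_inv_smul]
  odd := fun k hk ho i hi z hz => by
    have h1 : (g⁻¹ * k * g) • Z = Z := by rw [mul_smul, mul_smul, hg, hk, ← hg, inv_smul_smul]
    have h2 : Odd (orderOf (g⁻¹ * k * g)) := by
      have e : orderOf (g⁻¹ * k * g) = orderOf k := by
        have := orderOf_injective (MulAut.conj g⁻¹).toMonoidHom (MulAut.conj g⁻¹).injective k
        simpa using this
      rw [e]
      exact ho
    have h3 : (g⁻¹ * k * g) • Zi i = Zi i := by rw [mul_smul, mul_smul, hi, inv_smul_smul]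
    rw [AddSubgroup.mem_pointwise_smul_iff_inv_smul_mem] at hz
    have h4 := h.odd _ h1 h2 i h3 _ hz
    rw [mul_smul, mul_smul, smul_inv_smul] at h4
    exact smul_left_cancel _ h4

/-- if `|A : kA| ≥ 4` then some component of `Z₁` is moved by an odd element of `L₀` -/
theorem exists_mv [Finite H] [Finite M] (h : YS0 𝒜 S Zi Z) (hnz : ∀ i, ∃ x ∈ Zi i, x ≠ 0)
    (d : LD 𝒜 S Z A J₀ L Z₁) {g : H} (hg : g • Z = Z₁) (h4 : 4 * Nat.card (kA A L Z₁) ≤ Nat.card A) :
    ∃ i, Mv L Z₁ (fun i => g • Zi i) i := by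
  obtain ⟨l, hl, hlZ, ho, z, hz, hne⟩ := Sum.exists_odd h.two (h.el A d.mem) d
    (fun a ha x hx hx' e => d.ti ha hx hx' e) h4
  by_contra hc
  push Not at hc
  apply hne
  have D := dcm h hnz hg
  obtain ⟨f, hf, rfl⟩ := D.dec z hz
  rw [Finset.smul_sum]
  refine Finset.sum_congr rfl fun i _ => ?_
  refine D.odd l hlZ ho i ?_ _ (hf i)
  by_contra hm
  exact hc i ⟨l, hl, hlZ, ho, hm⟩

end Cfsg.Agent.Omega.OM.YThm.Two

namespace Cfsg.Agent.Omega.OM.YThm

open Subgroup Cfsg.Agent.ZN Cfsg.Agent.ZN.ChoiceBase Cfsg.Agent.ZN.ChoiceSit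
open scoped Pointwise

variable {H : Type*} [Group H] {M : Type*} [AddCommGroup M] [DistribMulAction H M]
  {𝒜 : Set (Subgroup H)} {S : Subgroup H} {Z V : AddSubgroup M} {A J₀ L : Subgroup H} {Z₁ : AddSubgroup M}
  {ι : Type*} [Fintype ι] {Zi : ι → AddSubgroup M}

/-- **(B)** -/
theorem YS.card_eq [Finite H] [Finite M] (h : YS 𝒜 S Zi Z V) (d : LD 𝒜 S Z A J₀ L Z₁) :
    Nat.card A = 2 * Nat.card (kA A L Z₁) := by
  by_contra hne
  have hle : kA A L Z₁ ≤ A := fun b hb => hb.1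
  have h1 : Nat.card (kA A L Z₁) * (kA A L Z₁).relIndex A = Nat.card A := by
    rw [← Subgroup.relIndex_bot_left, ← Subgroup.relIndex_bot_left,
      Subgroup.relIndex_mul_relIndex _ _ _ bot_le hle]
  obtain ⟨n, hn⟩ : ∃ n, (kA A L Z₁).relIndex A = 2 ^ n := (h.el A d.mem).pg.index _
  rw [hn] at h1
  have hnz : ∀ i, ∃ x ∈ Zi i, x ≠ 0 := fun i => by
    obtain ⟨x, hx, hx0, -⟩ := Two.Dcm.exists_ne₂ (h.four i) (0 : M)
    exact ⟨x, hx, hx0⟩
  rcases n with _ | _ | n
  · rw [pow_zero, mul_one] at h1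
    exact d.not_le_kA (Subgroup.eq_of_le_of_card_ge hle h1.ge).ge
  · apply hne
    rw [← h1]
    ring
  · have h4 : 4 * Nat.card (kA A L Z₁) ≤ Nat.card A := by
      rw [← h1, pow_add, mul_comm 4]
      refine Nat.mul_le_mul_left _ ?_
      have : 1 ≤ 2 ^ n := Nat.one_le_two_pow
      omega
    obtain ⟨g, hg⟩ := Two.exists_smul_eq h.toYS0 d
    obtain ⟨i, hi⟩ := Two.exists_mv h.toYS0 hnz d hg h4
    have h5 : 4 ≤ Nat.card (g • Zi i : AddSubgroup M) := by
      refine (h.four i).trans (Nat.card_le_card_of_injective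
        (fun y : Zi i => (⟨g • (y : M), AddSubgroup.smul_mem_pointwise_smul _ _ _ y.2⟩ : (g • Zi i : AddSubgroup M)))
        fun y y' e => ?_)
      have e' : g • (y : M) = g • (y' : M) := congrArg Subtype.val e
      exact Subtype.ext (smul_left_cancel g e')
    exact (Two.core h.toYS0 d).false_of_mv (Two.dcm h.toYS0 hnz hg) (h.ff A d.mem) h5 hi

end Cfsg.Agent.Omega.OM.YThm

end

section


/-!
# THEOREM 4F (#20067), (1): the uniserial case, abstractly

`H` acts on the elementary abelian 2-group `M`; `YS0 𝒜 S (fun _ => Z) Z` (THEOREM Y with one component `Z` of order 4,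
`u ∈ Z` fixed by `H`); `Z ≤ V`, `|V| = 16`, `S` normalises `V`; `Q` a normal 2-subgroup of `H` such that every `Q`-invariant
subgroup of `V` of order `> 2` contains `Z`. Then `H` fixes `Z`:  `US.main`.
-/

set_option autoImplicit false

namespace Cfsg.Agent.Omega.OM.FourF

open Subgroup Cfsg.Agent.ZN Cfsg.Agent.ZN.ChoiceBase Cfsg.Agent.ZN.ChoiceSit
open Cfsg.Agent.Omega.OM.YThm Cfsg.Agent.Omega.OM.YThm.EndC
open scoped Pointwise

universe u

/-- the situation of (1) -/
structure US {H : Type u} [Group H] {M : Type*} [AddCommGroup M] [DistribMulAction H M] (𝒜 : Set (Subgroup H))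
    (S Q : Subgroup H) (Z V : AddSubgroup M) (u : M) : Prop extends YS0 𝒜 S (fun _ : Unit => Z) Z where
  uZ : u ∈ Z
  u0 : u ≠ 0
  uH : ∀ g : H, g • u = u
  cardZ : Nat.card Z = 4
  cardV : Nat.card V = 16
  SV : ∀ s ∈ S, s • V = V
  Q2 : IsPGroup 2 Q
  Qn : ∀ g : H, cj g Q = Q
  /-- `V` is uniserial for `Q` -/
  ser : ∀ X : AddSubgroup M, X ≤ V → (∀ q ∈ Q, ∀ x ∈ X, q • x ∈ X) → 2 < Nat.card X → Z ≤ X
  el4 : ∀ E : Subgroup H, E ≤ S → El M E → Nat.card E ≤ 4 * Nat.card (ct E V)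
  el4' : ∀ E : Subgroup H, E ≤ S → El M E → Nat.card E = 4 * Nat.card (ct E V) →
    ∀ X : AddSubgroup M, (∀ e ∈ E, ∀ v ∈ V, e • v - v ∈ X) → Z ≤ X

/-- In a group of order 4. -/
theorem diff_four {M : Type*} [AddCommGroup M] [Finite M] (two : ∀ x : M, x + x = 0) {Z : AddSubgroup M}
    (hZ : Nat.card Z = 4) {u z w : M} (hu : u ∈ Z) (hz : z ∈ Z) (hw : w ∈ Z) (u0 : u ≠ 0) (z0 : z ≠ 0) (zu : z ≠ u)
    (w0 : w ≠ 0) (wu : w ≠ u) : w = z ∨ w = z + u := by
  classical
  by_contra hcon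
  push Not at hcon
  obtain ⟨h1, h2⟩ := hcon
  have : Fintype Z := Fintype.ofFinite Z
  have hzu0 : z + u ≠ 0 := fun h => zu (by
    have := congrArg (· + u) h
    simpa [add_assoc, two] using this)
  have hzuu : z + u ≠ u := fun h => z0 (by simpa using h)
  have hzuz : z + u ≠ z := fun h => u0 (by simpa using h)
  let s : Finset Z := {⟨0, zero_mem _⟩, ⟨u, hu⟩, ⟨z, hz⟩, ⟨z + u, add_mem hz hu⟩, ⟨w, hw⟩}
  have hs : s.card = 5 := by
    simp only [s]
    rw [Finset.card_insert_of_notMem, Finset.card_insert_of_notMem, Finset.card_insert_of_notMem,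
      Finset.card_insert_of_notMem, Finset.card_singleton]
    all_goals
      simp only [Finset.mem_insert, Finset.mem_singleton, Subtype.mk.injEq, not_or]
    · exact h2.symm
    · exact ⟨hzuz.symm, h1.symm⟩
    · exact ⟨zu.symm, hzuu.symm, wu.symm⟩
    · exact ⟨u0.symm, z0.symm, hzu0.symm, w0.symm⟩
  have h3 : s.card ≤ Fintype.card Z := Finset.card_le_univ s
  rw [← Nat.card_eq_fintype_card, hZ, hs] at h3
  omega

namespace US

variable {H : Type u} [Group H] [Finite H] {M : Type*} [AddCommGroup M] [Finite M] [DistribMulAction H M]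
  {𝒜 : Set (Subgroup H)} {S Q : Subgroup H} {Z V : AddSubgroup M} {u : M}

include H in
omit [Finite M] in
theorem Q_le (h : US 𝒜 S Q Z V u) (c : H) : Q ≤ cj c S := by
  obtain ⟨d, hd⟩ := Min.exists_cjS h.toYS0 h.Q2
  have h1 := cj_mono (c * d⁻¹) hd
  rw [h.Qn, cj_cj] at h1
  have h2 : c * d⁻¹ * d = c := by group
  rwa [h2] at h1

omit [Finite H] in
theorem card_eq [Finite H] (h : US 𝒜 S Q Z V u) {A J₀ L : Subgroup H} {Z₁ : AddSubgroup M}
    (d : LD 𝒜 S Z A J₀ L Z₁) : Nat.card A = 2 * Nat.card (kA A L Z₁) := by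
  by_contra hne
  obtain ⟨g, hg⟩ := Two.exists_smul_eq h.toYS0 d
  have huZ : u ∈ Z₁ := by
    rw [← hg, mem_smul, h.uH]
    exact h.uZ
  have huR : u ∈ fx Z₁ L := ⟨huZ, fun l _ => h.uH l⟩
  have hZ₁ : Nat.card Z₁ = 4 := by rw [← hg, card_smul, h.cardZ]
  have hle : kA A L Z₁ ≤ A := kA_le _ _ _
  have h1 : Nat.card (kA A L Z₁) * (kA A L Z₁).relIndex A = Nat.card A := by
    rw [← Subgroup.relIndex_bot_left, ← Subgroup.relIndex_bot_left,
      Subgroup.relIndex_mul_relIndex _ _ _ bot_le hle]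
  obtain ⟨n, hn⟩ : ∃ n, (kA A L Z₁).relIndex A = 2 ^ n := (h.el A d.mem).pg.index _
  rw [hn] at h1
  rcases n with _ | _ | n
  · rw [pow_zero, mul_one] at h1
    exact d.not_le_kA (Subgroup.eq_of_le_of_card_ge hle h1.ge).ge
  · apply hne
    rw [← h1]
    ring
  · have h4 : 4 * Nat.card (kA A L Z₁) ≤ Nat.card A := by
      rw [← h1, pow_add, mul_comm 4]
      refine Nat.mul_le_mul_left _ ?_
      have : 1 ≤ 2 ^ n := Nat.one_le_two_pow
      omega
    -- all of `Z₁` is fixed by `L`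
    have key : ∀ z ∈ Z₁, z ∈ fx Z₁ L := fun z hz => by
      refine Sum.sum_mem h.two (h.el A d.mem) d (fun a ha x hx hx' h5 => d.ti ha hx hx' h5) h4 hz fun l hl hlZ => ?_
      by_cases hz0 : z = 0
      · rw [hz0, smul_zero, sub_zero]; exact zero_mem _
      by_cases hzu : z = u
      · rw [hzu, h.uH, sub_self]; exact zero_mem _
      have hlz : l • z ∈ Z₁ := by
        rw [← hlZ]
        exact smul_mem.2 hz
      have hlz0 : l • z ≠ 0 := fun h5 => hz0 (by
        have := congrArg (l⁻¹ • ·) h5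
        simpa using this)
      have hlzu : l • z ≠ u := fun h5 => hzu (by
        have := congrArg (l⁻¹ • ·) h5
        simpa [h.uH] using this)
      rcases diff_four h.two hZ₁ huZ hz hlz h.u0 hz0 hzu hlz0 hlzu with h5 | h5
      · rw [h5, sub_self]; exact zero_mem _
      · rw [h5, add_sub_cancel_left]; exact huR
    obtain ⟨x, hx, hx'⟩ := d.ne
    apply hx'
    exact Min.smul_eq_of_fix fun z hz => (key z hz).2 x hx

/-- **(1)** -/
theorem main (h : US 𝒜 S Q Z V u) (g : H) : g • Z = Z := by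
  by_contra hg
  obtain ⟨A, J₀, L, Z₁, d⟩ := h.toYS0.exists_ld ⟨g, hg⟩
  have hα := h.card_eq d
  obtain ⟨g₀, hg₀⟩ := Two.exists_smul_eq h.toYS0 d
  have elA := h.el A d.mem
  set K := kA A L Z₁ with hK
  have hKA : K ≤ A := kA_le _ _ _
  have elK : El M K := El.mono elA hKA
  obtain ⟨x, hx, hx'⟩ := d.ne
  obtain ⟨a, ha, haK⟩ : ∃ a ∈ A, a ∉ K := by
    by_contra hcon
    push Not at hcon
    exact d.not_le_kA hcon
  have hap : a • x • Z₁ ≠ x • Z₁ := fun h1 => haK (d.ti ha hx hx' h1)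
  set p : AddSubgroup M := x • Z₁ with hp
  have hpZ : p = (x * g₀) • Z := by rw [hp, ← hg₀, mul_smul]
  -- the Sylow group `S^y ≥ K Q` of the stabiliser of `p`
  obtain ⟨y, hyp, hKy⟩ : ∃ y : H, y • Z = p ∧ K ≤ cj y S := by
    let B : Subgroup H := MulAction.stabilizer H p
    have hcB : ∀ c : H, c • Z = p → cj c S ≤ B := by
      intro c hc s hs
      have h1 := Min.fixS h.toYS0 (mem_cj.1 hs)
      rw [MulAction.mem_stabilizer_iff, ← hc]
      calc s • c • Z = c • (c⁻¹ * s * c) • Z := by rw [← mul_smul, ← mul_smul]; congr 1; group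
        _ = c • Z := by rw [h1]
    have hsy : Syl (cj (x * g₀) S) B := by
      refine ⟨hcB _ hpZ.symm, isPGroup_cj _ h.syl.2.1, fun R _ hR hle => ?_⟩
      have h1 := h.syl.2.2 (cj (x * g₀)⁻¹ R) le_top (isPGroup_cj _ hR) (by
        rw [← cj_le_iff]; exact hle)
      rw [← h1, cj_cj_inv]
    have hKB : K ≤ B := fun k hk => MulAction.mem_stabilizer_iff.2 (hk.2 x hx)
    obtain ⟨T', hT', hKT⟩ := exists_syl elK.pg hKB
    obtain ⟨s, hs, hsT⟩ := syl_conj hsy hT'
    refine ⟨s * (x * g₀), ?_, ?_⟩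
    · rw [mul_smul, ← hpZ]
      exact MulAction.mem_stabilizer_iff.1 hs
    · rw [← cj_cj, hsT]
      exact hKT
  set V' : AddSubgroup M := y • V with hV'
  have hSV : ∀ c : H, ∀ s ∈ cj c S, s • c • V = c • V := by
    intro c s hs
    calc s • c • V = c • (c⁻¹ * s * c) • V := by rw [← mul_smul, ← mul_smul]; congr 1; group
      _ = c • V := by rw [h.SV _ (mem_cj.1 hs)]
  have hSZ : ∀ c : H, ∀ s ∈ cj c S, s • c • Z = c • Z := by
    intro c s hs
    calc s • c • Z = c • (c⁻¹ * s * c) • Z := by rw [← mul_smul, ← mul_smul]; congr 1; group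
      _ = c • Z := by rw [Min.fixS h.toYS0 (mem_cj.1 hs)]
  set I : AddSubgroup M := V' ⊓ a • V' with hI
  have hIQ : ∀ q ∈ Q, ∀ w ∈ I, q • w ∈ I := by
    intro q hq w hw
    refine ⟨?_, ?_⟩
    · have h1 := hSV y q (h.Q_le y hq)
      have h2 : q • w ∈ q • y • V := smul_mem.2 hw.1
      rwa [h1] at h2
    · have h1 := hSV (a * y) q (h.Q_le _ hq)
      rw [mul_smul] at h1
      have h2 : q • w ∈ q • a • y • V := smul_mem.2 hw.2
      rwa [h1] at h2
  -- `uni` for `c • V`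
  have uni : ∀ (c : H) (X : AddSubgroup M), X ≤ c • V → (∀ q ∈ Q, ∀ w ∈ X, q • w ∈ X) → 2 < Nat.card X →
      c • Z ≤ X := by
    intro c X hX hQX h2
    have h1 : Z ≤ c⁻¹ • X := by
      refine h.ser _ ?_ ?_ (by rwa [card_smul])
      · intro w hw
        rw [mem_smul, inv_inv] at hw
        exact smul_mem.1 (hX hw)
      · intro q hq w hw
        rw [mem_smul, inv_inv] at hw ⊢
        have h3 : c * q * c⁻¹ ∈ Q := by
          rw [← h.Qn c]
          exact ⟨q, hq, rfl⟩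
        have h4 := hQX _ h3 _ hw
        rw [← mul_smul] at h4 ⊢
        have h5 : c * q * c⁻¹ * c = c * q := by group
        rwa [h5] at h4
    intro w hw
    rw [mem_smul] at hw
    have h2 := h1 hw
    rwa [mem_smul, inv_inv, smul_inv_smul] at h2
  have hcard : Nat.card I ≤ 2 := by
    by_contra hc
    push Not at hc
    have h1 : a • p ≤ I := by
      rw [← hyp, ← mul_smul]
      refine uni (a * y) I ?_ hIQ hc
      rw [mul_smul]
      exact inf_le_right
    have h2 : y • Z ≤ a • p := by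
      refine uni y (a • p) (h1.trans inf_le_left) ?_ ?_
      · intro q hq w hw
        have h3 := hSZ (a * y) q (h.Q_le _ hq)
        rw [mul_smul, hyp] at h3
        have h4 : q • w ∈ q • a • p := smul_mem.2 hw
        rwa [h3] at h4
      · rw [card_smul, ← hyp, card_smul, h.cardZ]
        norm_num
    rw [hyp] at h2
    have h3 : Nat.card (a • p : AddSubgroup M) ≤ Nat.card p := by rw [card_smul]
    exact hap (AddSubgroup.eq_of_le_of_card_ge h2 h3).symm
  -- the order count on `Y = ⟨V'^A⟩`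
  set Y : AddSubgroup M := orb A V' with hY
  have hV'Y : V' ≤ Y := le_orb A V'
  have hYA : ∀ b ∈ A, ∀ w ∈ Y, b • w ∈ Y := fun b hb w hw => orb_smul hb hw
  have hff := h.ff A d.mem Y hYA
  have hct : ct K V' ≤ ct A Y := by
    rintro k ⟨hk, hkV⟩
    refine ⟨hKA hk, fun w hw => ?_⟩
    let N : AddSubgroup M :=
      { carrier := {w | k • w = w}
        zero_mem' := smul_zero k
        add_mem' := fun {v w} hv hw => by
          change k • (v + w) = v + w
          rw [smul_add, show k • v = v from hv, show k • w = w from hw]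
        neg_mem' := fun {v} hv => by
          change k • (-v) = -v
          rw [smul_neg, show k • v = v from hv] }
    have h1 : Y ≤ N := orb_le fun b hb w hw => by
      change k • w = w
      have h2 := hkV _ (mem_smul.1 hw)
      have h3 := elA.comm k (hKA hk) b hb (b⁻¹ • w)
      rw [h2, smul_inv_smul] at h3
      exact h3
    exact h1 hw
  have hc1 : Nat.card (ct K V') ≤ Nat.card (ct A Y) := Subgroup.card_le_of_le hct
  -- `el4` for `K`, `V'`
  set K' : Subgroup H := cj y⁻¹ K with hK'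
  have hK'S : K' ≤ S := by
    have h1 := cj_mono y⁻¹ hKy
    rwa [cj_inv_cj] at h1
  have elK' : El M K' := El.cj elK y⁻¹
  have hctK : Nat.card (ct K V') = Nat.card (ct K' V) := by
    have h1 := ct_cj y V K'
    rw [hK', cj_cj_inv] at h1
    rw [hV', h1, card_cj]
  have hcK : Nat.card K = Nat.card K' := (card_cj _ _).symm
  have h4 : Nat.card K ≤ 4 * Nat.card (ct K V') := by
    rw [hctK, hcK]
    exact h.el4 K' hK'S elK'
  set f := Nat.card (fx Y A) with hf
  have pf : 0 < f := Nat.card_pos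
  have pc : 0 < Nat.card (ct A Y) := Nat.card_pos
  have hY8 : Nat.card Y ≤ 8 * f := by
    refine Nat.le_of_mul_le_mul_right ?_ pc
    calc Nat.card Y * Nat.card (ct A Y) ≤ Nat.card A * f := hff
      _ = 2 * Nat.card K * f := by rw [hα]
      _ ≤ 2 * (4 * Nat.card (ct A Y)) * f := by
          refine Nat.mul_le_mul_right _ (Nat.mul_le_mul_left _ (h4.trans (Nat.mul_le_mul_left _ hc1)))
      _ = 8 * f * Nat.card (ct A Y) := by ring
  have hcV' : Nat.card V' = 16 := by rw [hV', card_smul, h.cardV]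
  have hfI : Nat.card (V' ⊓ fx Y A : AddSubgroup M) ≤ 2 := by
    refine le_trans ?_ hcard
    refine Nat.card_le_card_of_injective (AddSubgroup.inclusion (?_ : V' ⊓ fx Y A ≤ I))
      (AddSubgroup.inclusion_injective _)
    intro w hw
    refine ⟨hw.1, ?_⟩
    have h1 : a • w = w := hw.2.2 a ha
    rw [← h1]
    exact smul_mem.2 hw.1
  have hsup : V' ⊔ fx Y A ≤ Y := sup_le hV'Y (fx_le _ _)
  have h5 : 16 * f ≤ Nat.card (V' ⊔ fx Y A : AddSubgroup M) * 2 := by
    rw [← hcV']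
    exact (card_mul_le le_sup_left le_sup_right).trans (Nat.mul_le_mul_left _ hfI)
  have hle : Nat.card (V' ⊔ fx Y A : AddSubgroup M) ≤ Nat.card Y :=
    Nat.card_le_card_of_injective (AddSubgroup.inclusion hsup) (AddSubgroup.inclusion_injective _)
  have hYeq : V' ⊔ fx Y A = Y := AddSubgroup.eq_of_le_of_card_ge hsup (by omega)
  have hYc : Nat.card Y = 8 * f := by omega
  have hK4 : Nat.card K = 4 * Nat.card (ct K V') := by
    refine le_antisymm h4 ((Nat.mul_le_mul_left _ hc1).trans ?_)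
    have h6 : 8 * f * Nat.card (ct A Y) ≤ 2 * Nat.card K * f := by rw [← hYc, ← hα]; exact hff
    have h7 : (2 * f) * (4 * Nat.card (ct A Y)) ≤ (2 * f) * Nat.card K := by
      calc _ = 8 * f * Nat.card (ct A Y) := by ring
        _ ≤ _ := h6
        _ = _ := by ring
    exact Nat.le_of_mul_le_mul_left h7 (by omega)
  -- `[V', K] ≤ I`
  have hKI : ∀ e ∈ K, ∀ v ∈ V', e • v - v ∈ I := by
    intro e he v hv
    have hKV' : ∀ w ∈ V', e • w - w ∈ V' := fun w hw => by
      refine sub_mem ?_ hw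
      have h1 := hSV y e (hKy he)
      have h2 : e • w ∈ e • y • V := smul_mem.2 hw
      rwa [h1] at h2
    have hw : a • v ∈ Y := hYA a ha v (hV'Y hv)
    rw [← hYeq, AddSubgroup.mem_sup] at hw
    obtain ⟨v', hv', w, hw, e1⟩ := hw
    have e2 : e • a • v - a • v = e • v' - v' := by
      rw [← e1, smul_add, hw.2 e (hKA he)]
      abel
    have e3 : e • a • v - a • v = a • (e • v - v) := by
      rw [elA.comm e (hKA he) a ha, smul_sub]
    have h1 : a • (e • v - v) ∈ V' := by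
      rw [← e3, e2]
      exact hKV' v' hv'
    refine ⟨hKV' v hv, ?_⟩
    change e • v - v ∈ a • V'
    rw [mem_smul]
    have h2 : a⁻¹ • (e • v - v) = a • (e • v - v) := by
      rw [inv_smul_eq_iff, elA.sq a ha]
    rw [h2]
    exact h1
  have h6 : Z ≤ y⁻¹ • I := by
    refine h.el4' K' hK'S elK' (by rw [← hcK, hK4, hctK]) _ fun e he v hv => ?_
    rw [mem_smul, inv_inv]
    have h7 : y * e * y⁻¹ ∈ K := by
      have := mem_cj.1 he
      rwa [inv_inv] at this
    have h8 := hKI _ h7 (y • v) (smul_mem.2 hv)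
    have h9 : y • (e • v - v) = (y * e * y⁻¹) • y • v - y • v := by
      rw [smul_sub, ← mul_smul, ← mul_smul]
      congr 2
      group
    rw [h9]
    exact h8
  have h7 : Nat.card Z ≤ Nat.card I := by
    have h8 := Nat.card_le_card_of_injective (AddSubgroup.inclusion h6) (AddSubgroup.inclusion_injective _)
    rwa [card_smul] at h8
  rw [h.cardZ] at h7
  omega

end US

end Cfsg.Agent.Omega.OM.FourF

end
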