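import Cfsg.Agent.Mrg.Omega.OM.YThm.Def
import Cfsg.Agent.Mrg.Omega.OM.YThm.TwoDec


/-!
# THEOREM Y (helper566): the assembly of parts A (`Min`), B (`Two`), C (`End`)
-/

set_option autoImplicit false

namespace Cfsg.Agent.Omega.OM.YThm

open Subgroup Cfsg.Agent.ZN Cfsg.Agent.ZN.ChoiceBase Cfsg.Agent.ZN.ChoiceSit
open scoped Pointwise

universe u

/-- **THEOREM Y** (helper743 #16998, helper350 #19419). -/
theorem YS.main {H : Type u} [Group H] [Finite H] {M : Type*} [AddCommGroup M] [Finite M] [DistribMulAction H M]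
    {𝒜 : Set (Subgroup H)} {S : Subgroup H} {ι : Type*} [Fintype ι] {Zi : ι → AddSubgroup M} {Z V : AddSubgroup M}
    (h : YS 𝒜 S Zi Z V) :
    (∀ g : H, g • Z = Z) ∨ ∃ R : AddSubgroup M, R ≤ Z ∧ Nat.card Z = 2 * Nat.card R ∧
      ∃ g : H, (∀ r ∈ R, g • r = r) ∧ g • Z ≠ Z := by
  by_cases hne : ∃ g : H, g • Z ≠ Z
  · obtain ⟨A, J₀, L, Z₁, d⟩ := h.exists_ld hne
    exact Or.inr (d.end_of h (h.card_eq d))
  · push Not at hne
    exact Or.inl hne

end Cfsg.Agent.Omega.OM.YThm
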