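import Cfsg.Agent.Mrg.Omega.OM.YThm.PlugA
import Cfsg.Agent.Mrg.Omega.OM.Swap.Pair
import Cfsg.Agent.Mrg.Omega.OM.YThm.PlugC

section


/-!
# THEOREM Y, plug: transitivity and step (8) for the data `Dt`

* `Dt.tr` : `S` is transitive on the `Z i`;
* `Dt.end8` : (8) for `Dt`.
-/

set_option autoImplicit false

namespace Cfsg.Agent.Omega.OM.YThm.Plug

open Subgroup Cfsg Cfsg.Agent.ZN.ChoiceBase Cfsg.Agent.ZN.ChoiceSit
open Cfsg.Agent.ZN (jj zj bau zc zl o2)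
open Cfsg.Agent.Omega.FFThm (NatK SymK ActsSL)
open Cfsg.Agent.Omega.FrameFF (cv)
open Cfsg.Agent.Omega.OM.YThm.End8 (FourF)
open scoped Pointwise

universe u

variable {G : Type u} [Group G] [Finite G] {S : Sylow 2 G} {P : Subgroup G} {F : Type} [Field F] [Finite F]
  [CharP F 2] {k : ℕ} {N : NatK F (S : Subgroup G) P (zl (S : Subgroup G) P) (cv (S : Subgroup G) P) k}
  {L W Z C A : Fin k → Subgroup G} (D : Dt S P N L W Z C A)

include D

/-- `S` is transitive on the `Z i`. -/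
theorem Dt.tr (i j : Fin k) : ∃ s ∈ (S : Subgroup G), cj s (Z i) = Z j := by
  obtain ⟨t, ht, h1⟩ := N.trans i j
  obtain ⟨-, h2⟩ := D.line.norm (Line.S_le S ht)
  obtain ⟨j', h3, -⟩ := h2 i
  have c := D.cd
  obtain ⟨z, hz, hze⟩ := c.surj (sg i 1 0)
  have hzZ : z ∈ Z i := (D.mem_Z i z).2 ⟨(D.mem_W i z).2 ⟨hz, fun l hl => by rw [hze, sg_ne hl]⟩,
    by rw [hze, sg_same]; rfl⟩
  have h4 : t * z * t⁻¹ ∈ Z j' := by
    rw [← h3]; exact ⟨z, hzZ, rfl⟩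
  have h5 : N.e (t * z * t⁻¹) j ≠ 0 := by
    rw [Ne, h1 z hz, hze, sg_same]
    intro h
    exact one_ne_zero (congrFun h 0)
  have h6 : j = j' := by
    by_contra hne
    exact h5 (((D.mem_W j' _).1 ((D.mem_Z j' _).1 h4).1).2 j hne)
  exact ⟨t, ht, by rw [h3, h6]⟩

/-- (8) -/
theorem Dt.end8 (hFF : FFThm.Stmt.{u}) (hq : 4 ≤ Nat.card F) {R : Subgroup G}
    (hZR : zc (S : Subgroup G) ≤ R) (hR : R ≤ zj (S : Subgroup G))
    (hcR : Nat.card (zj (S : Subgroup G)) ≤ 2 * Nat.card R) {g : G} (hg : g ∈ centralizer (R : Set G))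
    (hgn : g ∉ normalizer (zj (S : Subgroup G) : Set G)) : FourF (S : Subgroup G) (Nat.card F) := by
  have c := D.cd
  refine D.line.end8 D.tr hFF hq rfl (k := k) (fun z i => N.e z i 0) ?_ ?_ ?_ ?_ hZR hR hcR hg hgn
  · intro z hz w hw
    funext i
    show N.e (z * w) i 0 = N.e z i 0 + N.e w i 0
    rw [c.mul z (c.ZV hz) w (c.ZV hw)]
    rfl
  · intro x
    obtain ⟨v, hv, hve⟩ := c.surj fun i => ![x i, 0]
    refine ⟨v, (c.memZ v hv).2 fun i => by rw [hve]; rfl, ?_⟩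
    funext i
    rw [hve]
    rfl
  · intro z hz h0
    refine c.inj z (c.ZV hz) ?_
    funext i l
    fin_cases l
    · exact congrFun h0 i
    · exact (c.memZ z (c.ZV hz)).1 hz i
  · intro t ht
    obtain ⟨π, σ, cc, d, hS, -⟩ := c.semi (D.nm ht)
    exact ⟨π, cc, σ, hS.zero⟩

end Cfsg.Agent.Omega.OM.YThm.Plug

end

section


/-!
# THEOREM Y (TCARD 5 #19947), stage `-1`

`HypJ S P`, `V_P` natural with `k ≥ 2` blocks over `F`, `|F| ≥ 4`: `C_G(Ω₁(Z(S))) ≤ N_G(Z_J)`, or `(4F)`: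
`|F| = 4` and some 2-element of `N_G(B)` centralises a hyperplane of `Z_J`.
-/

set_option autoImplicit false

namespace Cfsg.Agent.Omega.OM.YThm.Plug

open Subgroup Cfsg Cfsg.Agent.ZN.ChoiceBase Cfsg.Agent.ZN.ChoiceSit
open Cfsg.Agent.ZN (jj zj bau zc zl o2)
open Cfsg.Agent.Omega.FFThm (NatK)
open Cfsg.Agent.Omega.FrameFF (cv)
open Cfsg.Agent.Omega.FrameNOFF (CZ)
open Cfsg.Agent.Omega.NO3S (HypJ Hyp WW)
open Cfsg.Agent.Omega.OM.YThm.End8 (FourF)

universe u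

variable {G : Type u} [Group G] [Finite G] {S : Sylow 2 G} {P : Subgroup G} {F : Type} [Field F] [Finite F]
  [CharP F 2] {k : ℕ}

/-- **THEOREM Y** over the frame. -/
theorem Dt.thmY {N : NatK F (S : Subgroup G) P (zl (S : Subgroup G) P) (cv (S : Subgroup G) P) k}
    {L W Z C A : Fin k → Subgroup G} (D : Dt S P N L W Z C A) (hFF : FFThm.Stmt.{u}) (hq : 4 ≤ Nat.card F) :
    CZ (S : Subgroup G) ≤ normalizer (zj (S : Subgroup G) : Set G) ∨ FourF (S : Subgroup G) (Nat.card F) := by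
  rcases D.main hq with h | ⟨R, h1, h2, h3, g, h4, h5⟩
  · exact Or.inl h
  · exact Or.inr (D.end8 hFF hq h1 h2 h3 h4 h5)

/-- **THEOREM Y.** -/
theorem thmY (h : HypJ S P) (hFF : FFThm.Stmt.{u}) (hk : 2 ≤ k) (hq : 4 ≤ Nat.card F)
    (N : NatK F (S : Subgroup G) P (zl (S : Subgroup G) P) (cv (S : Subgroup G) P) k) :
    CZ (S : Subgroup G) ≤ normalizer (zj (S : Subgroup G) : Set G) ∨ FourF (S : Subgroup G) (Nat.card F) := by
  obtain ⟨L, W, Z, C, A, D⟩ := exists_dt h hk N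
  exact D.thmY hFF hq

end Cfsg.Agent.Omega.OM.YThm.Plug

end
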