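import Cfsg.Agent.Mrg.Omega.OM.YThm.MW
import Cfsg.Agent.Mrg.Omega.OM.YThm.Def
import Cfsg.Agent.Mrg.Omega.OM.FrSym


/-!
# THEOREM Y, plug: coordinates

* `cd_of`, `nm_of` : the coordinates of `NatK` are `Cd`, `N_G(B)` acts by `Nm`;
* `frat` : `N_G(Z_J) = C_G(Z_J) N_G(B)`, so `N_G(Z_J)` acts semilinearly on `Z_J`;
* `exists_cn` : rescaled coordinates; `co_of` : the coordinates of the module `W`.
-/

set_option autoImplicit false

namespace Cfsg.Agent.Omega.OM.YThm.Plug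

open Subgroup Cfsg Cfsg.Agent.ZN.ChoiceBase Cfsg.Agent.ZN.ChoiceSit
open Cfsg.Agent.ZN (jj zj bau zc zl o2)
open Cfsg.Agent.Lib.SL2Mat Cfsg.Agent.Omega.NatPair
open Cfsg.Agent.Omega.FFThm (NatK SymK ActsSL)
open Cfsg.Agent.Omega.FrameFF (cv)
open Cfsg.Agent.Omega.FrameNOFF (CZ)
open Cfsg.Agent.Omega.NO3S (HypJ Hyp)
open Cfsg.Agent.Omega.OM.YThm.MW
open scoped Pointwise

universe u

variable {G : Type u} [Group G] [Finite G] {S : Sylow 2 G} {P : Subgroup G} {F : Type} [Field F] [Finite F]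
  [CharP F 2] {k : ℕ}

/-- The data: the line, the coordinates and the summands. -/
structure Dt (S : Sylow 2 G) (P : Subgroup G)
    (N : NatK F (S : Subgroup G) P (zl (S : Subgroup G) P) (cv (S : Subgroup G) P) k)
    (L W Z C A : Fin k → Subgroup G) : Prop where
  line : Line S P L W Z C A (Nat.card F)
  mem_W : ∀ i v, v ∈ W i ↔ v ∈ zl (S : Subgroup G) P ∧ ∀ j, j ≠ i → N.e v j = 0
  mem_C : ∀ i v, v ∈ C i ↔ v ∈ zl (S : Subgroup G) P ∧ N.e v i = 0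
  mem_Z : ∀ i v, v ∈ Z i ↔ v ∈ W i ∧ N.e v i 1 = 0
  two : 2 ≤ k

theorem exists_dt (h : HypJ S P) (hk : 2 ≤ k)
    (N : NatK F (S : Subgroup G) P (zl (S : Subgroup G) P) (cv (S : Subgroup G) P) k) :
    ∃ L W Z C A : Fin k → Subgroup G, Dt S P N L W Z C A := by
  obtain ⟨L, W, Z, C, A, -, h1, h2, h3, h4⟩ := Line.exists_nat h hk N
  exact ⟨L, W, Z, C, A, h4, h1, h2, h3, hk⟩

variable {N : NatK F (S : Subgroup G) P (zl (S : Subgroup G) P) (cv (S : Subgroup G) P) k}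
  {L W Z C A : Fin k → Subgroup G} (D : Dt S P N L W Z C A)

include D

theorem Dt.out : NatOut N :=
  natOut D.line.hyp.toHyp.syl D.line.hyp.star.toIsMinPar (D.line.hyp.star.isLoc.char2 S D.line.hyp.ctx.char2)
    D.line.hyp.jnot (by have := D.two; omega) N D.line.hyp.toHyp.cv

theorem Dt.cd : Cd F (bau (S : Subgroup G)) (zl (S : Subgroup G) P) (zj (S : Subgroup G)) k N.e := by
  have o := D.out
  have hV : ∀ b ∈ bau (S : Subgroup G), ∀ v ∈ zl (S : Subgroup G) P, b * v * b⁻¹ ∈ zl (S : Subgroup G) P := by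
    intro b hb v hv
    have h1 := (D.line.norm (g := b) (le_normalizer hb)).1
    rw [← h1]
    exact ⟨v, hv, rfl⟩
  have hup : ∀ {b : G} {c : Fin k → F}, ActsSL N.e (zl (S : Subgroup G) P) (cv (S : Subgroup G) P) b
      (fun i => up (c i)) → ∀ v ∈ zl (S : Subgroup G) P, ∀ i,
      N.e (b * v * b⁻¹) i 0 = N.e v i 0 + c i * N.e v i 1 ∧ N.e (b * v * b⁻¹) i 1 = N.e v i 1 := by
    intro b c hc v hv i
    rw [hc.1 v hv i]
    constructor
    · rw [ap_zero', up_00, up_01, one_mul]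
    · rw [ap_one', up_10, up_11, zero_mul, one_mul, zero_add]
  exact
    { VV := fun v hv w hw => D.line.fr.Vc hv hw
      mul := N.mul
      surj := N.surj
      inj := fun v hv h0 => by
        have h1 := (N.ker v hv).1 h0
        rwa [o.Dbot, mem_bot] at h1
      ZV := o.zj_le
      memZ := fun v hv => ⟨fun h => ((o.mem_zj v).1 h).2, fun h => (o.mem_zj v).2 ⟨hv, h⟩⟩
      nB := hV
      act := fun b hb => by
        obtain ⟨c, hc⟩ := o.bau_up b hb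
        exact ⟨c, hup hc⟩
      full := fun c => by
        obtain ⟨b, hb, hc⟩ := o.jj_up c
        exact ⟨b, jj_le_bau _ hb, hup hc⟩ }

theorem Dt.mem_Z' {i : Fin k} {v : G} : v ∈ Z i ↔ v ∈ zj (S : Subgroup G) ∧ ∀ j, j ≠ i → N.e v j 0 = 0 := by
  have c := D.cd
  rw [D.mem_Z, D.mem_W]
  constructor
  · rintro ⟨⟨h1, h2⟩, h3⟩
    refine ⟨(c.memZ v h1).2 fun j => ?_, fun j hj => by rw [h2 j hj]; rfl⟩
    by_cases hj : j = i
    · rw [hj]; exact h3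
    · rw [h2 j hj]; rfl
  · rintro ⟨h1, h2⟩
    have h3 := (c.memZ v (c.ZV h1)).1 h1
    refine ⟨⟨c.ZV h1, fun j hj => ?_⟩, h3 i⟩
    funext l
    fin_cases l
    · exact h2 j hj
    · exact h3 j

/-- `N_G(B)` acts by `Nm`. -/
theorem Dt.nm {g : G} (hg : g ∈ normalizer (bau (S : Subgroup G) : Set G)) :
    Nm (bau (S : Subgroup G)) (zl (S : Subgroup G) P) N.e g := by
  have c := D.cd
  obtain ⟨h1, h2⟩ := D.line.norm hg
  refine ⟨fun v hv => ?_, fun b hb => (mem_normalizer_iff.1 hg b).1 hb, fun i => ?_⟩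
  · rw [← h1]
    exact ⟨v, hv, rfl⟩
  obtain ⟨j, h3, h4⟩ := h2 i
  refine ⟨j, fun z hz hzl hz1 => ?_, fun w hw hwl l hl => ?_⟩
  · have h5 : z ∈ Z i := (D.mem_Z i z).2 ⟨(D.mem_W i z).2 ⟨hz, hzl⟩, hz1⟩
    have h6 : g * z * g⁻¹ ∈ Z j := by
      rw [← h3]; exact ⟨z, h5, rfl⟩
    obtain ⟨h7, h8⟩ := (D.mem_Z j _).1 h6
    exact ⟨((D.mem_W j _).1 h7).2, h8⟩
  · have h5 : w ∈ W i := (D.mem_W i w).2 ⟨hw, hwl⟩
    have h6 : g * w * g⁻¹ ∈ W j ⊔ zj (S : Subgroup G) := h4 ⟨w, h5, rfl⟩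
    have hle : zj (S : Subgroup G) ≤ zl (S : Subgroup G) P := c.ZV
    have hcom : ∀ a ∈ zj (S : Subgroup G), ∀ b ∈ W j, a * b = b * a := fun a ha b hb =>
      c.VV a (hle ha) b ((D.mem_W j b).1 hb).1
    obtain ⟨x, hx, z, hz, e⟩ := SQ1.Bau.mem_sup_comm hcom (by rw [sup_comm]; exact h6)
    rw [e, c.mul x (hle hx) z ((D.mem_W j z).1 hz).1, Pi.add_apply, Pi.add_apply,
      ((D.mem_W j z).1 hz).2 l hl, (c.memZ x (hle hx)).1 hx l]
    simp

omit [Field F] [Finite F] [CharP F 2] D in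
/-- `N_G(Z_J)` acts on `Z_J` as `N_G(B)`. -/
theorem Dt.frat {g : G} (hg : cj g (zj (S : Subgroup G)) = zj (S : Subgroup G)) :
    ∃ n ∈ normalizer (bau (S : Subgroup G) : Set G), ∀ z ∈ zj (S : Subgroup G), g * z * g⁻¹ = n * z * n⁻¹ := by
  obtain ⟨d, hd, n, hn, rfl⟩ := Dich.exists_frattini S (mem_normalizer_iff_cj.2 hg)
  refine ⟨n, hn, fun z hz => ?_⟩
  have h1 : n * z * n⁻¹ ∈ zj (S : Subgroup G) := (mem_normalizer_iff.1 (Dich.norm_zj _ hn) z).1 hz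
  have h2 := mem_centralizer_iff.1 hd _ h1
  calc d * n * z * (d * n)⁻¹ = d * (n * z * n⁻¹) * d⁻¹ := by group
    _ = n * z * n⁻¹ := by rw [← h2]; group

theorem Dt.exists_cn : ∃ z₀ f₀ : Fin k → F, (∀ i, z₀ i ≠ 0) ∧ (∀ i, f₀ i ≠ 0) ∧
    Cn F (S : Subgroup G) (bau (S : Subgroup G)) (zl (S : Subgroup G) P) (zj (S : Subgroup G)) k (rs z₀ f₀ N.e) :=
  D.cd.exists_cn (by have := D.two; omega) S.isPGroup' (fun _ hs => D.nm (Line.S_le S hs)) N.trans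

end Cfsg.Agent.Omega.OM.YThm.Plug
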