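import Cfsg.Agent.Mrg.Omega.OM.YThm.PlugA
import Cfsg.Agent.Mrg.Omega.NoFF.LemmaW


/-!
# THEOREM Y, plug: the coordinates of the module `W`

* `wd` : `C = C_G(Z)` acts on `W = ⟨V^C⟩`;
* `Dt.co` : coordinates of `ad V`, `Dt.odd`, `Dt.lemV`, `Dt.dec`, `Dt.uni`, `Dt.prm`.
-/

set_option autoImplicit false
set_option linter.unusedSectionVars false

namespace Cfsg.Agent.Omega.OM.YThm.Plug

open Subgroup Cfsg Cfsg.Agent.ZN.ChoiceBase Cfsg.Agent.ZN.ChoiceSit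
open Cfsg.Agent.ZN (jj zj bau zc zl o2)
open Cfsg.Agent.Lib.SL2Mat Cfsg.Agent.Omega.NatPair
open Cfsg.Agent.Omega.FFThm (NatK SymK ActsSL)
open Cfsg.Agent.Omega.FrameFF (cv)
open Cfsg.Agent.Omega.FrameNOFF (CZ)
open Cfsg.Agent.Omega.NO3S (HypJ Hyp WW)
open Cfsg.Agent.Omega.OM.YThm.MW (vl vl_mem vl_mk vl_add vl_zero vl_inj vl_smul ad mem_ad smul_ad_eq_iff smul_eq_iff)
open scoped Pointwise

universe u

variable {G : Type u} [Group G] [Finite G] {S : Sylow 2 G} {P : Subgroup G}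

theorem wd (h : Hyp S P) : WD (CZ (S : Subgroup G)) (WW (S : Subgroup G) P) where
  nrm := NoFF.Lines.C_le_normalizer_W
  el := Cfsg.Agent.PLocal.ThompsonJ.isElementaryAbelian_iff.2
    ⟨fun a ha _ hb => mem_centralizer_iff.1 (h.W_comm hb) a ha, h.W_sq⟩

theorem S_le_CZ (S : Sylow 2 G) : (S : Subgroup G) ≤ CZ (S : Subgroup G) :=
  Cfsg.Agent.MinSimple.VModule.le_centralizer_zc _

theorem W_le_S (h : Hyp S P) : WW (S : Subgroup G) P ≤ (S : Subgroup G) :=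
  h.geo.W_le_o2.trans ((Cfsg.Agent.Omega.MinPar.isLoc_centralizer_zc S (h.ctx.sylow_ne_bot S)).o2_le S)

theorem V_le_W : zl (S : Subgroup G) P ≤ WW (S : Subgroup G) P := NO3S.zl_le_WW

/-- `S` as a subgroup of `C`. -/
abbrev SC (S : Sylow 2 G) : Subgroup (CZ (S : Subgroup G)) := (S : Subgroup G).subgroupOf (CZ (S : Subgroup G))

variable {F : Type} [Field F] [Finite F] [CharP F 2] {k : ℕ}
  {N : NatK F (S : Subgroup G) P (zl (S : Subgroup G) P) (cv (S : Subgroup G) P) k}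
  {L W Z C A : Fin k → Subgroup G} (D : Dt S P N L W Z C A)

/-- the module -/
abbrev Md (D : Dt S P N L W Z C A) : Type u := MW (wd D.line.hyp.toHyp)

/-- `V` -/
abbrev VV (D : Dt S P N L W Z C A) : AddSubgroup (Md D) := ad (wd D.line.hyp.toHyp) (zl (S : Subgroup G) P)

/-- `Z_J` -/
abbrev ZZ (D : Dt S P N L W Z C A) : AddSubgroup (Md D) := ad (wd D.line.hyp.toHyp) (zj (S : Subgroup G))

/-- `Z i` -/
abbrev ZZi (D : Dt S P N L W Z C A) (i : Fin k) : AddSubgroup (Md D) := ad (wd D.line.hyp.toHyp) (Z i)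

include D in
theorem Dt.Z_le_W : zj (S : Subgroup G) ≤ WW (S : Subgroup G) P := D.cd.ZV.trans V_le_W

theorem Dt.smulZ {g : CZ (S : Subgroup G)} :
    g • ZZ D = ZZ D ↔ cj (g : G) (zj (S : Subgroup G)) = zj (S : Subgroup G) :=
  smul_ad_eq_iff _ D.Z_le_W D.Z_le_W

theorem Dt.co {e : G → Fin k → Fin 2 → F}
    (c : Cn F (S : Subgroup G) (bau (S : Subgroup G)) (zl (S : Subgroup G) P) (zj (S : Subgroup G)) k e) :
    Co F (SC S) (VV D) (ZZ D) k (fun x => e (vl x)) where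
  add := fun v hv w hw => c.mul _ hv _ hw
  surj := fun x => by
    obtain ⟨v, hv, hx⟩ := c.surj x
    exact ⟨MW.mk _ ⟨v, V_le_W hv⟩, hv, hx⟩
  inj := fun v hv h0 => vl_inj (by rw [c.inj _ hv h0]; rfl)
  ZV := fun x hx => c.ZV hx
  memZ := fun v hv => c.memZ _ hv
  SV := fun s hs v hv => (c.sn (s : G) hs).nV _ hv
  act := fun s hs => by
    obtain ⟨π, σ, h1⟩ := c.sact (s : G) hs
    refine ⟨π, σ, fun v hv i => ?_, fun z hz i => ?_⟩
    · have := h1.one _ hv i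
      rw [Pi.one_apply, one_mul] at this
      exact this
    · have := h1.zero _ hz i
      rw [Pi.one_apply, one_mul] at this
      exact this
  up := fun s hs hz => by
    have hb : (s : G) ∈ bau (S : Subgroup G) := by
      rw [mem_bau]
      refine ⟨hs, fun y hy => ?_⟩
      have := (smul_eq_iff s (MW.mk (wd D.line.hyp.toHyp) ⟨y, D.Z_le_W hy⟩)).1 (hz _ hy)
      exact this.symm
    obtain ⟨b, h1⟩ := c.act _ hb
    exact ⟨b, fun v hv i => h1 _ hv i⟩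

theorem Dt.mem_ZZi {z₀ f₀ : Fin k → F} (hz : ∀ i, z₀ i ≠ 0) (i : Fin k) (z : Md D) :
    z ∈ ZZi D i ↔ z ∈ ZZ D ∧ ∀ j, j ≠ i → rs z₀ f₀ N.e (vl z) j 0 = 0 := by
  rw [mem_ad, mem_ad, D.mem_Z']
  refine and_congr_right fun _ => forall_congr' fun j => forall_congr' fun _ => ?_
  rw [rs_zero]
  exact ⟨fun h => by rw [h, mul_zero], fun h => (mul_eq_zero.1 h).resolve_left (inv_ne_zero (hz j))⟩

include D in
theorem Dt.two' (x : Md D) : x + x = 0 :=
  vl_inj (by rw [vl_add, (wd D.line.hyp.toHyp).sq (vl_mem x)]; rfl)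

include D in
theorem Dt.isP : IsPGroup 2 (SC S) := S.isPGroup'.comap_subtype

/-- `YS0.odd` -/
theorem Dt.odd (g : CZ (S : Subgroup G)) (hg : g • ZZ D = ZZ D) (ho : Odd (orderOf g)) (i : Fin k)
    (hi : g • ZZi D i = ZZi D i) : ∀ z ∈ ZZi D i, g • z = z := by
  obtain ⟨z₀, f₀, hz, hf, c⟩ := D.exists_cn
  refine (D.co c).odd D.isP (fun i z => D.mem_ZZi hz i z) (fun g hg => ?_) (fun g hg z hz hs => ?_) g hg ho i hi
  · obtain ⟨n, hn, h1⟩ := Dt.frat (D.smulZ.1 hg)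
    obtain ⟨π, σ, a, d, h2, -⟩ := c.toCd.semi ((D.nm hn).rsc hz hf)
    refine ⟨π, a, σ, fun z hz i => ?_⟩
    have h3 := h2.zero _ hz i
    rw [← h1 _ hz] at h3
    exact h3
  · have h1 : vl z ∈ zc (S : Subgroup G) := by
      rw [mem_zc]
      refine ⟨W_le_S D.line.hyp.toHyp (vl_mem z), D.line.hyp.toHyp.W_sq _ (vl_mem z), fun s hs' => ?_⟩
      exact (smul_eq_iff _ _).1 (hs ⟨s, S_le_CZ S hs'⟩ hs')
    exact (smul_eq_iff _ _).2 (mem_centralizer_iff.1 g.2 _ h1).symm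

/-- `YS.lemV` -/
theorem Dt.lemV (E : Subgroup (CZ (S : Subgroup G))) (hES : E ≤ SC S) (hE : El (Md D) E) :
    Nat.card E * Nat.card (ZZ D) * Nat.card (fx (VV D) E) ≤
      Nat.card (ct E (VV D)) * Nat.card (fx (ZZ D) E) * Nat.card (VV D) := by
  obtain ⟨z₀, f₀, hz, hf, c⟩ := D.exists_cn
  exact (D.co c).lemV D.two' hES hE

/-- `YS0.prm` -/
theorem Dt.prm (g : CZ (S : Subgroup G)) (hg : g • ZZ D = ZZ D) (i : Fin k) : ∃ j, g • ZZi D i = ZZi D j := by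
  obtain ⟨n, hn, h1⟩ := Dt.frat (D.smulZ.1 hg)
  obtain ⟨-, h2⟩ := D.line.norm hn
  obtain ⟨j, h3, -⟩ := h2 i
  have hZ : ∀ i, Z i ≤ zj (S : Subgroup G) := fun i v hv => (D.mem_Z'.1 hv).1
  refine ⟨j, (smul_ad_eq_iff _ ((hZ i).trans D.Z_le_W) ((hZ j).trans D.Z_le_W)).2 ?_⟩
  rw [← h3]
  ext x
  constructor
  · rintro ⟨z, hz, rfl⟩
    exact ⟨z, hz, (h1 z (hZ i hz)).symm⟩
  · rintro ⟨z, hz, rfl⟩
    exact ⟨z, hz, h1 z (hZ i hz)⟩

theorem Dt.ZiZ (i : Fin k) : ZZi D i ≤ ZZ D := fun _ hx => (D.mem_Z'.1 hx).1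

theorem Dt.e_sum (f : Fin k → Md D) (hf : ∀ i, f i ∈ ZZi D i) (i : Fin k) :
    N.e (vl (∑ j, f j)) i = N.e (vl (f i)) i := by
  classical
  have key : ∀ s : Finset (Fin k), (∑ j ∈ s, f j) ∈ VV D ∧
      N.e (vl (∑ j ∈ s, f j)) i = if i ∈ s then N.e (vl (f i)) i else 0 := by
    intro s
    induction s using Finset.induction_on with
    | empty =>
      refine ⟨(VV D).zero_mem, ?_⟩
      rw [Finset.sum_empty, vl_zero, D.cd.map_one, if_neg (Finset.notMem_empty i)]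
      rfl
    | insert a s ha ih =>
      obtain ⟨h1, h2⟩ := ih
      have ha1 : f a ∈ VV D := D.cd.ZV (D.ZiZ a (hf a))
      rw [Finset.sum_insert ha]
      refine ⟨(VV D).add_mem ha1 h1, ?_⟩
      rw [vl_add, D.cd.mul _ ha1 _ h1, Pi.add_apply, h2]
      by_cases hia : i = a
      · subst hia
        rw [if_neg ha, add_zero, if_pos (Finset.mem_insert_self _ _)]
      · have h3 : N.e (vl (f a)) i = 0 := by
          obtain ⟨h4, h5⟩ := D.mem_Z'.1 (hf a)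
          funext l
          fin_cases l
          · exact h5 i hia
          · exact (D.cd.memZ _ ha1).1 h4 i
        rw [h3, zero_add]
        simp only [Finset.mem_insert, hia, false_or]
  have := (key Finset.univ).2
  rwa [if_pos (Finset.mem_univ i)] at this

theorem Dt.sum_mem (f : Fin k → Md D) (hf : ∀ i, f i ∈ ZZi D i) : (∑ j, f j) ∈ VV D :=
  (VV D).sum_mem fun i _ => D.cd.ZV (D.ZiZ i (hf i))

/-- `YS0.dec` -/
theorem Dt.dec (z : Md D) (hz : z ∈ ZZ D) : ∃ f : Fin k → Md D, (∀ i, f i ∈ ZZi D i) ∧ z = ∑ i, f i := by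
  classical
  have h1 : ∀ i, ∃ v ∈ zl (S : Subgroup G) P, N.e v = Pi.single i (N.e (vl z) i) := fun i => D.cd.surj _
  choose v hv hve using h1
  have hzV := D.cd.ZV hz
  have hf : ∀ i, (MW.mk (wd D.line.hyp.toHyp) ⟨v i, V_le_W (hv i)⟩ : Md D) ∈ ZZi D i := by
    intro i
    show v i ∈ Z i
    rw [D.mem_Z', D.cd.memZ _ (hv i)]
    refine ⟨fun l => ?_, fun l hl => ?_⟩
    · rw [hve]
      by_cases hli : l = i
      · subst hli
        rw [Pi.single_eq_same]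
        exact (D.cd.memZ _ hzV).1 hz l
      · rw [Pi.single_eq_of_ne hli]; rfl
    · rw [hve, Pi.single_eq_of_ne hl]; rfl
  refine ⟨fun i => MW.mk _ ⟨v i, V_le_W (hv i)⟩, hf, ?_⟩
  apply vl_inj
  refine D.cd.eq_of hzV (D.sum_mem _ hf) ?_
  funext i
  rw [D.e_sum _ hf i, vl_mk, hve, Pi.single_eq_same]

/-- `YS0.uni` -/
theorem Dt.uni (f : Fin k → Md D) (hf : ∀ i, f i ∈ ZZi D i) (h0 : ∑ i, f i = 0) (i : Fin k) : f i = 0 := by
  have hi : f i ∈ VV D := D.cd.ZV (D.ZiZ i (hf i))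
  have h1 := D.e_sum f hf i
  rw [h0, vl_zero, D.cd.map_one] at h1
  apply vl_inj
  refine D.cd.inj _ hi ?_
  funext l
  by_cases hl : l = i
  · subst hl; exact h1.symm
  · obtain ⟨h4, h5⟩ := D.mem_Z'.1 (hf i)
    funext m
    fin_cases m
    · exact h5 l hl
    · exact (D.cd.memZ _ hi).1 h4 l

end Cfsg.Agent.Omega.OM.YThm.Plug
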